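import Groth.Agent.L21.Duality.Generic
import Groth.Agent.L02.Canon.Basic
import Groth.Agent.L19.ProjBdl.Basis
import Groth.Agent.L17.FinLocBases
import Groth.Agent.L17.PullBasis

/-!
The differentials of a smooth curve form an invertible module.
-/

set_option autoImplicit false
set_option backward.isDefEq.respectTransparency false
set_option linter.style.haveILetI false
universe u

open CategoryTheory AlgebraicGeometry TopologicalSpace Opposite

noncomputable section

namespace Groth.L21.Duality

variable {X S : Scheme.{u}} [IsIntegral X]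

/-- Differentials of a smooth morphism are finite locally free. -/
theorem isFinLocFree_omega (p : X ⟶ S) [QuasiSeparated p] [Smooth p] : FlatMod.IsFinLocFree (Omega.sheaf p) := by
  intro x
  obtain ⟨V, hV, U, hU, hxU, e, hf⟩ := Smooth.exists_isStandardSmooth p x
  letI : Algebra Γ(S, V) Γ(X, U) := (p.appLE V U e).hom.toAlgebra
  haveI : Algebra.IsStandardSmooth Γ(S, V) Γ(X, U) := hf
  haveI : Nontrivial Γ(X, U) := (X.presheaf.germ U x hxU).hom.domain_nontrivial
  haveI : Module.Finite Γ(X, U) Ω[Γ(X, U)⁄Γ(S, V)] := inferInstance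
  haveI : Module.Free Γ(X, U) Ω[Γ(X, U)⁄Γ(S, V)] := inferInstance
  obtain ⟨i, -⟩ := Groth.L19.OmegaSh.exists_chart_affine
    (Groth.L19.OmegaSh.isUniversal_dOmega (f := p)) hU hV e
  let b := Module.finBasis Γ(X, U) Ω[Γ(X, U)⁄Γ(S, V)]
  let j : (Omega.sheaf p).restrict hU.fromSpec ≅ FlatMod.freeMod (Spec Γ(X, U)) _ :=
    i ≪≫ (tilde.functor Γ(X, U)).mapIso (b.reindex Equiv.ulift.symm).repr.toModuleIso ≪≫
      Groth.L19.PullChart.freeTildeIso Γ(X, U) _
  exact ⟨hU.fromSpec.opensRange, _, by rw [hU.opensRange_fromSpec]; exact hxU,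
    Groth.L19.PullChart.exists_free_of_chart _ _ j⟩

/-- A locally free module with one-dimensional generic stalk is invertible. -/
theorem isInvertible_of_generic {M : X.Modules} (hM : FlatMod.IsFinLocFree M)
    {δ : M.presheaf.stalk (genericPoint X)} (hδ : ∀ v, ∃! z : X.functionField, z • δ = v) :
    PicF.IsInvertible M := by
  refine Groth.L18.GenLoc.isInvertible_of_frames fun x => ?_
  obtain ⟨W, n, hxW, ⟨e⟩⟩ := hM x
  obtain ⟨t, ht⟩ := Groth.L17.FinLocBases.exists_isBasis M e
  have hb := Groth.L19.ProjBdl.isBasisOn_of_locBases ht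
  have hxW' : x ∈ W.ι ''ᵁ ⊤ := by rw [W.ι_image_top]; exact hxW
  have hst := Groth.L17.PullBasis.bijective_stalk M t hb.locBases (genericPoint X) (generic_mem hxW')
  let e₁ := LinearEquiv.ofBijective (Fintype.linearCombination X.functionField
    (fun i => M.presheaf.germ (W.ι ''ᵁ ⊤) (genericPoint X) (generic_mem hxW') (t i))) hst
  let e₂ := LinearEquiv.ofBijective (LinearMap.toSpanSingleton X.functionField (M.presheaf.stalk (genericPoint X)) δ)
    ⟨fun a b h => (hδ (b • δ)).unique h rfl, fun v => (hδ v).exists⟩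
  obtain rfl : n = 1 := by simpa using (e₁.trans e₂.symm).finrank_eq
  refine ⟨W.ι ''ᵁ ⊤, t 0, hxW', fun V h => ?_⟩
  have h1 : (fun a : Γ(X, V) => a • Groth.L18.Frame.rs M h (t 0)) =
      Groth.L19.ProjBdl.lc M t h ∘ fun a _ => a := funext fun a => by
    simp [Groth.L19.ProjBdl.lc]
  rw [h1]
  exact (hb V h).comp ⟨fun a b hab => congrFun hab 0,
    fun c => ⟨c 0, funext fun j => by rw [Subsingleton.elim j 0]⟩⟩

end Groth.L21.Duality
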