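import Groth.Agent.L21.Duality.Separating
import Groth.Agent.L21.P1.PushCoh
import Groth.Agent.L21.P1.Coh
import Groth.Agent.L08.Cube.Inverse
import Groth.Agent.L18.Ample
import Groth.Prelude.Def_Curv2

/-!
Serre duality for invertible modules on a smooth proper curve.

Main results: `isInvertible_omega`, `duality`, `exists_dual`, `omega_invariants`.
-/

set_option autoImplicit false
set_option backward.isDefEq.respectTransparency false
set_option linter.style.haveILetI false
universe u

open CategoryTheory CategoryTheory.Limits AlgebraicGeometry TopologicalSpace Opposite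

noncomputable section

namespace Groth.L21.Duality

open Groth.L18.PUP (P pr)
open Groth.L21.RR (h)
open Groth.L21.P1 (sumO O h_O h_sumO h_push_affine exists_splitting)
open Groth.L21.Disc (overMap)

variable {k : Type u} [Field k] {X : Scheme.{u}} [IsIntegral X] [X.Over (Spec (CommRingCat.of k))]
  [IsProper (X ↘ Spec (CommRingCat.of k))] [Smooth (X ↘ Spec (CommRingCat.of k))]

theorem duality_of_cover (hd : topologicalKrullDim X ≤ 1) (f : X ⟶ P 1 k) [IsFinite f] [Flat f]
    (hf : f ≫ pr 1 k = X ↘ Spec (CommRingCat.of k)) (hdom : f (genericPoint X) = genericPoint (P 1 k))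
    (hsep : letI := (overMap f (genericPoint X) (genericPoint (P 1 k)) hdom).toAlgebra
      Algebra.IsSeparable (P 1 k).functionField X.functionField)
    {N L : X.Modules} (hN : PicF.IsInvertible N) (hL : PicF.IsInvertible L)
    (e : CohB1.tensorMod N L ≅ Omega.sheaf (X ↘ Spec (CommRingCat.of k))) :
    h k 0 N = h k 1 L ∧ h k 1 N = h k 0 L := by
  haveI := Groth.L21.RR.isNoetherian_of_proper (X := X) k
  haveI := Groth.L21.RR.isNoetherian_of_proper (X := P 1 k) k
  haveI : Coh.IsQCoh L := (Groth.L16.ProperFinite.isCoh_of_isInvertible hL).1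
  haveI : Coh.IsQCoh N := (Groth.L16.ProperFinite.isCoh_of_isInvertible hN).1
  haveI : (P 1 k).IsSeparated := ⟨by
    rw [terminal.hom_ext (terminal.from (P 1 k)) (pr 1 k ≫ terminal.from (Spec (CommRingCat.of k)))]
    infer_instance⟩
  have hLf : FlatMod.IsFinLocFree ((Scheme.Modules.pushforward f).obj L) := by
    haveI : LocallyOfFinitePresentation f := inferInstance
    exact Groth.L20.ResDescent.isFinLocFree_push f ⟨inferInstance, inferInstance, inferInstance⟩ L
      (Groth.L16.Existence.isFinLocFree_of_isInvertible hL)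
  obtain ⟨r, hr⟩ := Groth.L21.Disc.exists_rank hLf
  obtain ⟨d, -, ⟨θ⟩⟩ := exists_splitting k hr
  obtain ⟨θ'⟩ := nonempty_push_iso f hdom hd hf hsep hN hL e d θ
  have hk : ∀ p, h k p L = ∑ l, h k p (O k (d l)) ∧ h k p N = ∑ l, h k p (O k (-2 - d l)) := fun p =>
    ⟨by rw [← h_push_affine k f hf L p, ← Groth.L21.RR.h_congr k θ p, h_sumO],
      by rw [← h_push_affine k f hf N p, ← Groth.L21.RR.h_congr k θ' p, h_sumO]⟩
  constructor
  · rw [(hk 0).2, (hk 1).1]
    refine Finset.sum_congr rfl fun l _ => ?_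
    rw [(h_O k (-2 - d l)).1, (h_O k (d l)).2]
    congr 1
    ring
  · rw [(hk 1).2, (hk 0).1]
    refine Finset.sum_congr rfl fun l _ => ?_
    rw [(h_O k (-2 - d l)).2, (h_O k (d l)).1]
    congr 1
    ring

/-- The differentials of a smooth proper curve form an invertible module. -/
theorem isInvertible_omega (hd : topologicalKrullDim X = 1) :
    PicF.IsInvertible (Omega.sheaf (X ↘ Spec (CommRingCat.of k))) := by
  obtain ⟨f, hfin, hflat, hf, hdom, hsep⟩ := exists_separable_cover (k := k) hd
  haveI := hfin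
  exact isInvertible_of_generic (isFinLocFree_omega (X ↘ Spec (CommRingCat.of k)))
    (chart_spec f hd.le hf hdom hsep 0).1

/-- Serre duality for invertible modules on a smooth proper curve. -/
theorem duality (hd : topologicalKrullDim X = 1) {N L : X.Modules} (hN : PicF.IsInvertible N)
    (hL : PicF.IsInvertible L) (e : CohB1.tensorMod N L ≅ Omega.sheaf (X ↘ Spec (CommRingCat.of k))) :
    h k 0 N = h k 1 L ∧ h k 1 N = h k 0 L := by
  obtain ⟨f, hfin, hflat, hf, hdom, hsep⟩ := exists_separable_cover (k := k) hd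
  haveI := hfin
  haveI := hflat
  exact duality_of_cover hd.le f hf hdom hsep hN hL e

omit [IsIntegral X] [X.Over (Spec (CommRingCat.of k))] [IsProper (X ↘ Spec (CommRingCat.of k))]
  [Smooth (X ↘ Spec (CommRingCat.of k))] in
theorem nonempty_cancel (ω L L' : X.Modules) (i : CohB1.tensorMod L L' ≅ Coh.structureModule X) :
    Nonempty (CohB1.tensorMod (CohB1.tensorMod ω L') L ≅ ω) :=
  ⟨Groth.L00.Tensor.tensorAssoc _ _ _ ≪≫
      Groth.L00.Tensor.tensorIso (Iso.refl ω) (Groth.L00.Tensor.tensorComm L' L ≪≫ i) ≪≫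
        Groth.L00.Tensor.tensorUnitRight _⟩

/-- Every invertible module has a dual against the differentials. -/
theorem exists_dual (hd : topologicalKrullDim X = 1) {L : X.Modules} (hL : PicF.IsInvertible L) :
    ∃ N : X.Modules, PicF.IsInvertible N ∧
      Nonempty (CohB1.tensorMod N L ≅ Omega.sheaf (X ↘ Spec (CommRingCat.of k))) ∧
      h k 0 N = h k 1 L ∧ h k 1 N = h k 0 L := by
  obtain ⟨L', hL', ⟨i⟩⟩ := Groth.L08.Cube.exists_inverse hL
  have hΩ := isInvertible_omega (k := k) hd
  have hN := Groth.L18.GenLoc.isInvertible_tensor hΩ hL'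
  obtain ⟨e⟩ := nonempty_cancel (Omega.sheaf (X ↘ Spec (CommRingCat.of k))) L L' i
  exact ⟨_, hN, ⟨e⟩, duality hd hN hL e⟩

/-- Cohomology and degree of the differentials. -/
theorem omega_invariants (hd : topologicalKrullDim X = 1) :
    h k 0 (Omega.sheaf (X ↘ Spec (CommRingCat.of k))) = h k 1 (Coh.structureModule X) ∧
      h k 1 (Omega.sheaf (X ↘ Spec (CommRingCat.of k))) = h k 0 (Coh.structureModule X) ∧
      (h k 0 (Coh.structureModule X) = 1 →
        Curv2.deg k X (Omega.sheaf (X ↘ Spec (CommRingCat.of k))) 1 = 2 * (Curv2.genus k X : ℤ) - 2) := by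
  have h1 := duality (k := k) hd (isInvertible_omega (k := k) hd) (Groth.L18.Ample.isInvertible_structureModule X)
    (Groth.L00.Tensor.tensorUnitRight _)
  refine ⟨h1.1, h1.2, fun h0 => ?_⟩
  rw [Curv2.deg, Groth.L21.RR.euler_eq k hd.le, Groth.L21.RR.euler_eq k hd.le, h1.1, h1.2, h0]
  show _ = 2 * ((h k 1 (Coh.structureModule X) : ℕ) : ℤ) - 2
  push_cast
  ring

end Groth.L21.Duality
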