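import Groth.Agent.L18.GenLocus
import Groth.Agent.L21.RR.Coh
import Groth.Agent.L21.RR.Finite
import Groth.Agent.L20.ModStalk
import Mathlib.AlgebraicGeometry.FunctionField

/-!
Invertible modules on an integral scheme inside their generic stalk, and the generic form of a pairing.
-/

set_option autoImplicit false
set_option backward.isDefEq.respectTransparency false
set_option linter.style.haveILetI false
universe u

open CategoryTheory AlgebraicGeometry TopologicalSpace Opposite

noncomputable section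

namespace Groth.L21.Duality

open Groth.L18.Frame (rs ro rs_rs rs_self rs_smul IsFrame)
open Groth.L18.GenLoc (tens tens_rs tens_smul_left tens_smul_right isFrame_tens)

variable {X : Scheme.{u}} [IsIntegral X]

theorem generic_mem {V : X.Opens} {x : X} (hx : x ∈ V) : genericPoint X ∈ V :=
  ((genericPoint_spec X).specializes trivial).mem_open V.2 hx

/-- The generic germ of a section. -/
abbrev gη (M : X.Modules) {V : X.Opens} (hV : genericPoint X ∈ V) (s : Γ(M, V)) :
    M.presheaf.stalk (genericPoint X) := M.presheaf.germ V (genericPoint X) hV s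

/-- The generic germ of a function. -/
abbrev γη {V : X.Opens} (hV : genericPoint X ∈ V) : Γ(X, V) →+* X.functionField :=
  (X.presheaf.germ V (genericPoint X) hV).hom

theorem gη_smul (M : X.Modules) {V : X.Opens} (hV : genericPoint X ∈ V) (a : Γ(X, V)) (s : Γ(M, V)) :
    gη M hV (a • s) = γη hV a • gη M hV s := Groth.L20.ModStalk.germ_smul M hV a s

theorem gη_rs (M : X.Modules) {U V : X.Opens} (h : V ≤ U) (hV : genericPoint X ∈ V) (s : Γ(M, U)) :
    gη M hV (rs M h s) = gη M (h hV) s := Groth.L20.ModStalk.germ_rs M h hV s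

theorem γη_ro {U V : X.Opens} (h : V ≤ U) (hV : genericPoint X ∈ V) (a : Γ(X, U)) :
    γη hV (ro h a) = γη (h hV) a := TopCat.Presheaf.germ_res_apply X.presheaf (homOfLE h) _ hV a

theorem gη_injective {M : X.Modules} (hM : PicF.IsInvertible M) {V : X.Opens} (hV : genericPoint X ∈ V)
    {s t : Γ(M, V)} (h : gη M hV s = gη M hV t) : s = t := by
  refine Groth.L21.RR.germ_ext fun x hx => ?_
  obtain ⟨W, e, hxW, he⟩ := Groth.L18.Frame.exists_frame hM x
  have hη : genericPoint X ∈ V ⊓ W := ⟨hV, generic_mem hxW⟩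
  obtain ⟨a, ha⟩ := he.exists_coeff (inf_le_right : V ⊓ W ≤ W) (rs M inf_le_left s)
  obtain ⟨b, hb⟩ := he.exists_coeff (inf_le_right : V ⊓ W ≤ W) (rs M inf_le_left t)
  have hab : a = b := by
    refine germ_injective_of_isIntegral X (genericPoint X) hη ?_
    refine (Groth.L21.RR.bijective_germ_frame he (generic_mem hxW)).1 ?_
    show γη hη a • gη M _ e = γη hη b • gη M _ e
    rw [← gη_rs M (inf_le_right : V ⊓ W ≤ W) hη e, ← gη_smul, ← gη_smul, ha, hb, gη_rs, gη_rs, h]
  have hst : rs M (inf_le_left : V ⊓ W ≤ V) s = rs M inf_le_left t := by rw [← ha, ← hb, hab]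
  rw [← Groth.L20.ModStalk.germ_rs M (inf_le_left : V ⊓ W ≤ V) (show x ∈ V ⊓ W from ⟨hx, hxW⟩) s, hst,
    Groth.L20.ModStalk.germ_rs]

/-- A generic element which is everywhere locally a section is a section. -/
theorem exists_section_of_local {M : X.Modules} (hM : PicF.IsInvertible M) {W : X.Opens}
    (hW : genericPoint X ∈ W) (ν : M.presheaf.stalk (genericPoint X))
    (h : ∀ x ∈ W, ∃ (V : X.Opens) (hx : x ∈ V) (s : Γ(M, V)), gη M (generic_mem hx) s = ν) :
    ∃ s : Γ(M, W), gη M hW s = ν := by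
  choose V hxV s hs using fun x : W => h x.1 x.2
  let OM : TopCat.Sheaf Ab.{u} X.toTopCat := ⟨M.presheaf, M.isSheaf⟩
  have hc : W ≤ ⨆ x, V x ⊓ W := fun x hx => Opens.mem_iSup.mpr ⟨⟨x, hx⟩, hxV ⟨x, hx⟩, hx⟩
  obtain ⟨c, hcs, -⟩ := OM.existsUnique_gluing' (fun x => V x ⊓ W) W (fun x => homOfLE inf_le_right) hc
    (fun x => rs M inf_le_left (s x)) fun x y => by
      refine gη_injective hM (V := (V x ⊓ W) ⊓ (V y ⊓ W))
        ⟨⟨generic_mem (hxV x), hW⟩, generic_mem (hxV y), hW⟩ ?_
      show gη M _ (rs M inf_le_left (rs M inf_le_left (s x))) = gη M _ (rs M inf_le_right (rs M inf_le_left (s y)))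
      rw [gη_rs, gη_rs, gη_rs, gη_rs, hs, hs]
  refine ⟨c, ?_⟩
  have hη : ∀ x : W, genericPoint X ∈ V x ⊓ W := fun x => ⟨generic_mem (hxV x), hW⟩
  have h1 : rs M (inf_le_right : V ⟨_, hW⟩ ⊓ W ≤ W) c = rs M inf_le_left (s ⟨_, hW⟩) := hcs ⟨_, hW⟩
  rw [← gη_rs M (inf_le_right : V ⟨_, hW⟩ ⊓ W ≤ W) (hη _), h1, gη_rs, hs]

/-- The product of sections attached to `N ⊗ L ≅ ω`. -/
def prod {N L ω : X.Modules} (e : CohB1.tensorMod N L ≅ ω) (V : X.Opens) (n : Γ(N, V)) (l : Γ(L, V)) : Γ(ω, V) :=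
  e.hom.app V (tens N L V n l)

omit [IsIntegral X] in
theorem rs_prod {N L ω : X.Modules} (e : CohB1.tensorMod N L ≅ ω) {U V : X.Opens} (h : V ≤ U) (n : Γ(N, U))
    (l : Γ(L, U)) : rs ω h (prod e U n l) = prod e V (rs N h n) (rs L h l) := by
  rw [prod, prod, ← tens_rs]
  exact (congr($(e.hom.mapPresheaf.naturality (homOfLE h).op) (tens N L U n l))).symm

omit [IsIntegral X] in
theorem prod_smul {N L ω : X.Modules} (e : CohB1.tensorMod N L ≅ ω) {V : X.Opens} (a b : Γ(X, V)) (n : Γ(N, V))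
    (l : Γ(L, V)) : prod e V (a • n) (b • l) = (a * b) • prod e V n l := by
  rw [prod, prod, tens_smul_left, tens_smul_right, smul_smul, Scheme.Modules.Hom.app_smul]

omit [IsIntegral X] in
theorem isFrame_prod {N L ω : X.Modules} (e : CohB1.tensorMod N L ≅ ω) {V : X.Opens} {n : Γ(N, V)} {l : Γ(L, V)}
    (hn : IsFrame N V n) (hl : IsFrame L V l) : IsFrame ω V (prod e V n l) := fun U h => by
  have h1 : (fun a : Γ(X, U) => a • rs ω h (prod e V n l)) =
      e.hom.app U ∘ fun a : Γ(X, U) => a • rs (CohB1.tensorMod N L) h (tens N L V n l) := funext fun a => by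
    simp only [Function.comp_apply, Scheme.Modules.Hom.app_smul]
    exact congrArg (a • ·) (congr($(e.hom.mapPresheaf.naturality (homOfLE h).op) (tens N L V n l))).symm
  rw [h1]
  exact (ConcreteCategory.bijective_of_isIso (e.hom.app U)).comp (isFrame_tens hn hl U h)

/-- The generic pairing. -/
theorem exists_generic_pairing {N L ω : X.Modules} (hN : PicF.IsInvertible N) (hL : PicF.IsInvertible L)
    (e : CohB1.tensorMod N L ≅ ω) :
    ∃ μ : N.presheaf.stalk (genericPoint X) →ₗ[X.functionField]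
        L.presheaf.stalk (genericPoint X) →ₗ[X.functionField] ω.presheaf.stalk (genericPoint X),
      (∀ (V : X.Opens) (hV : genericPoint X ∈ V) (n : Γ(N, V)) (l : Γ(L, V)),
        μ (gη N hV n) (gη L hV l) = gη ω hV (prod e V n l)) ∧
      ∀ a b, μ a b = 0 → a = 0 ∨ b = 0 := by
  obtain ⟨W₁, n₀, hW₁, hn₀⟩ := Groth.L18.Frame.exists_frame hN (genericPoint X)
  obtain ⟨W₂, l₀, hW₂, hl₀⟩ := Groth.L18.Frame.exists_frame hL (genericPoint X)
  have hW : genericPoint X ∈ W₁ ⊓ W₂ := ⟨hW₁, hW₂⟩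
  have hn := hn₀.mono (inf_le_left : W₁ ⊓ W₂ ≤ W₁)
  have hl := hl₀.mono (inf_le_right : W₁ ⊓ W₂ ≤ W₂)
  let eN := LinearEquiv.ofBijective (LinearMap.toSpanSingleton X.functionField (N.presheaf.stalk (genericPoint X))
    (gη N hW (rs N inf_le_left n₀))) (Groth.L21.RR.bijective_germ_frame hn hW)
  let eL := LinearEquiv.ofBijective (LinearMap.toSpanSingleton X.functionField (L.presheaf.stalk (genericPoint X))
    (gη L hW (rs L inf_le_right l₀))) (Groth.L21.RR.bijective_germ_frame hl hW)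
  let s₀ := gη ω hW (prod e _ (rs N inf_le_left n₀) (rs L inf_le_right l₀))
  let μ := LinearMap.mk₂ X.functionField (fun a b => (eN.symm a * eL.symm b) • s₀)
    (fun a a' b => by rw [map_add, add_mul, add_smul])
    (fun c a b => by rw [map_smul, smul_eq_mul, mul_assoc, mul_smul])
    (fun a b b' => by rw [map_add, mul_add, add_smul])
    (fun c a b => by rw [map_smul, smul_eq_mul, mul_left_comm, mul_smul])
  refine ⟨μ, fun V hV n l => ?_, fun a b h => ?_⟩
  · have hU : genericPoint X ∈ V ⊓ (W₁ ⊓ W₂) := ⟨hV, hW⟩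
    obtain ⟨a, ha⟩ := hn.exists_coeff (inf_le_right : V ⊓ (W₁ ⊓ W₂) ≤ _) (rs N inf_le_left n)
    obtain ⟨b, hb⟩ := hl.exists_coeff (inf_le_right : V ⊓ (W₁ ⊓ W₂) ≤ _) (rs L inf_le_left l)
    have hga : eN.symm (gη N hV n) = γη hU a := by
      rw [LinearEquiv.symm_apply_eq]
      show gη N hV n = γη hU a • gη N hW _
      rw [← gη_rs N inf_le_left hU n, ← ha, gη_smul, gη_rs, gη_rs]
    have hgb : eL.symm (gη L hV l) = γη hU b := by
      rw [LinearEquiv.symm_apply_eq]
      show gη L hV l = γη hU b • gη L hW _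
      rw [← gη_rs L inf_le_left hU l, ← hb, gη_smul, gη_rs, gη_rs]
    show (eN.symm (gη N hV n) * eL.symm (gη L hV l)) • s₀ = _
    rw [hga, hgb, ← map_mul, ← gη_rs ω inf_le_left hU (prod e V n l), rs_prod, ← ha, ← hb, prod_smul, gη_smul,
      ← rs_prod, gη_rs]
  · have hs₀ : s₀ ≠ 0 := fun h0 => one_ne_zero
      ((Groth.L21.RR.bijective_germ_frame (isFrame_prod e hn hl) hW).1
        (a₁ := (1 : X.functionField)) (a₂ := 0)
        (by show (1 : X.functionField) • s₀ = (0 : X.functionField) • s₀; rw [h0, smul_zero, smul_zero]))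
    have h' : (eN.symm a * eL.symm b) • s₀ = 0 := h
    rcases mul_eq_zero.1 ((smul_eq_zero.1 h').resolve_right hs₀) with h | h
    · exact Or.inl ((map_eq_zero_iff _ eN.symm.injective).1 h)
    · exact Or.inr ((map_eq_zero_iff _ eL.symm.injective).1 h)

end Groth.L21.Duality
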