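import Groth.Agent.L21.Duality.Main
import Groth.Agent.L21.RR.PointTwist
import Groth.Agent.L21.RR.Equality

/-!
The canonical linear system of a smooth proper curve.
-/

set_option autoImplicit false
set_option backward.isDefEq.respectTransparency false
set_option linter.style.haveILetI false
universe u

open CategoryTheory CategoryTheory.Limits AlgebraicGeometry TopologicalSpace Opposite

noncomputable section

namespace Groth.L21.Duality

open Groth.L21.RR (h st)

attribute [local instance] Curv2.resAlgebra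

variable {k : Type u} [Field k] {X : Scheme.{u}} [IsIntegral X] [X.Over (Spec (CommRingCat.of k))]
  [IsProper (X ↘ Spec (CommRingCat.of k))]

/-- A degree-zero invertible module with a section is trivial. -/
theorem nonempty_iso_of_deg_eq_zero (hd : topologicalKrullDim X ≤ 1) {L : X.Modules} (hL : PicF.IsInvertible L)
    (hdeg : Curv2.deg k X L 1 = 0) (hs : Nontrivial (Coh.HH X L 0)) :
    Nonempty (Coh.structureModule X ≅ L) := by
  haveI := Groth.L21.RR.isNoetherian_of_proper (X := X) k
  obtain ⟨φ, hφ⟩ := Groth.L21.RR.exists_hom_ne_zero (L := L)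
  haveI := Groth.L21.RR.mono_of_ne_zero hL hφ
  have hQ := Groth.L21.RR.suppClosed_cokernel hd hL hφ
  haveI := Groth.L21.RR.finite_HH' k (Groth.L16.CohKernel.isCoh_kernel_cokernel
    Groth.L16.CohClosedPush.isCoh_structure (Groth.L16.ProperFinite.isCoh_of_isInvertible hL) φ).2 0
  have h0 : h k 0 (cokernel φ) = 0 := by
    have := Groth.L21.RR.deg_eq_h0_cokernel k hd hL hφ
    omega
  haveI : Subsingleton (Coh.HH X (cokernel φ) 0) := Module.finrank_zero_iff.1 h0
  haveI : Epi φ := by
    refine Abelian.epi_of_cokernel_π_eq_zero φ (Groth.L21.Mod.hom_ext_stalk fun x => ?_)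
    ext v
    obtain ⟨s, hs, -⟩ := Groth.L21.RR.exists_section_germ hQ x (st (cokernel.π φ) x v)
    have hs0 : s = 0 := (Groth.L21.RR.e0 (cokernel φ)).symm.injective (Subsingleton.elim _ _)
    rw [hs0, map_zero] at hs
    show st (cokernel.π φ) x v = st (0 : L ⟶ cokernel φ) x v
    rw [← hs, st, Functor.map_zero]
    rfl
  haveI : IsIso φ := isIso_of_mono_of_epi φ
  exact ⟨asIso φ⟩

variable [Smooth (X ↘ Spec (CommRingCat.of k))]

/-- The canonical system has no base point in positive genus. -/
theorem exists_surjective_st_omega (hd : topologicalKrullDim X = 1) (h0 : h k 0 (Coh.structureModule X) = 1)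
    (hg : 1 ≤ h k 1 (Coh.structureModule X)) (x : X) :
    ∃ φ : Coh.structureModule X ⟶ Omega.sheaf (X ↘ Spec (CommRingCat.of k)), Function.Surjective (st φ x) := by
  haveI := Groth.L21.RR.isNoetherian_of_proper (X := X) k
  have hΩ := isInvertible_omega (k := k) hd
  obtain ⟨hΩ0, hΩ1, -⟩ := omega_invariants (k := k) (X := X) hd
  obtain ⟨P, hP, hxP⟩ := Groth.L21.RR.exists_closed_specialization x
  suffices hs : ∃ φ : Coh.structureModule X ⟶ Omega.sheaf (X ↘ Spec (CommRingCat.of k)),
      Function.Surjective (st φ P) from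
    hs.imp fun φ hφ => Groth.L21.RR.surjective_st_of_specializes hΩ hxP hφ
  by_contra hns
  push_neg at hns
  obtain ⟨M, ι, -, hM, heM, hM0⟩ := Groth.L21.RR.exists_minus_point k hd hΩ hP
  obtain ⟨N, hN, -, hN0, hN1⟩ := exists_dual (k := k) hd hM
  have hM0' := hM0 hns
  haveI := Groth.L21.Disc.finite_residueField_of_isClosed k hP
  have hdP : 0 < Module.finrank k (X.residueField P) := Module.finrank_pos
  rw [Groth.L21.RR.euler_eq k hd.le, Groth.L21.RR.euler_eq k hd.le, hΩ0, hΩ1, h0, hM0', hΩ0] at heM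
  have hdeg : Curv2.deg k X N 1 = (Module.finrank k (X.residueField P) : ℤ) := by
    rw [Curv2.deg, Groth.L21.RR.euler_eq k hd.le, Groth.L21.RR.euler_eq k hd.le, hN0, hN1, h0, hM0', hΩ0]
    push_cast at heM ⊢
    linarith
  have hN0' : (h k 0 N : ℤ) = Curv2.deg k X N 1 + 1 := by
    rw [hN0, hdeg]
    push_cast at heM ⊢
    linarith
  have hnt : Nontrivial (Coh.HH X N 0) :=
    not_subsingleton_iff_nontrivial.1 fun hs => by
      have := Groth.L21.RR.h_eq_zero_of_subsingleton k hs
      omega
  have := Groth.L21.RR.genus_eq_zero_of_h0_eq k hd.le h0 hN hnt hN0' (by rw [hdeg]; exact_mod_cast hdP)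
  omega

theorem isGloballyGenerated_omega (hd : topologicalKrullDim X = 1) (h0 : h k 0 (Coh.structureModule X) = 1)
    (hg : 1 ≤ h k 1 (Coh.structureModule X)) :
    Curv2.IsGloballyGenerated (Omega.sheaf (X ↘ Spec (CommRingCat.of k))) :=
  Groth.L21.RR.isGloballyGenerated_of_sections (exists_surjective_st_omega hd h0 hg)

/-- A module of degree `2g - 2` with `g` sections is canonical. -/
theorem nonempty_iso_omega (hd : topologicalKrullDim X = 1) (h0 : h k 0 (Coh.structureModule X) = 1)
    {L : X.Modules} (hL : PicF.IsInvertible L) (hdeg : Curv2.deg k X L 1 = 2 * (h k 1 (Coh.structureModule X) : ℤ) - 2)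
    (hL0 : h k 1 (Coh.structureModule X) ≤ h k 0 L) :
    Nonempty (L ≅ Omega.sheaf (X ↘ Spec (CommRingCat.of k))) := by
  obtain ⟨N, hN, ⟨e⟩, hN0, hN1⟩ := exists_dual (k := k) hd hL
  rw [Curv2.deg, Groth.L21.RR.euler_eq k hd.le, Groth.L21.RR.euler_eq k hd.le, h0] at hdeg
  push_cast at hdeg
  have hdegN : Curv2.deg k X N 1 = 0 := by
    rw [Curv2.deg, Groth.L21.RR.euler_eq k hd.le, Groth.L21.RR.euler_eq k hd.le, hN0, hN1, h0]
    push_cast
    linarith
  have hnt : Nontrivial (Coh.HH X N 0) :=
    not_subsingleton_iff_nontrivial.1 fun hs => by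
      have := Groth.L21.RR.h_eq_zero_of_subsingleton k hs
      omega
  obtain ⟨i⟩ := nonempty_iso_of_deg_eq_zero hd.le hN hdegN hnt
  exact ⟨(Groth.L00.Tensor.tensorUnitLeft L).symm ≪≫ Groth.L00.Tensor.tensorIso i (Iso.refl L) ≪≫ e⟩

end Groth.L21.Duality
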