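import Groth.Agent.L22.CurveDeg.Devissage
import Groth.Agent.L22.CurveDeg.Det.Main
import Groth.Agent.L21.RR.Sections

/-!
Additivity of degrees of invertible modules on an integral curve.
-/

set_option autoImplicit false
set_option backward.isDefEq.respectTransparency false
set_option linter.style.haveILetI false
universe u

open CategoryTheory CategoryTheory.Limits AlgebraicGeometry TopologicalSpace Opposite

noncomputable section

namespace Groth.L21.Duality

open Groth.L22.CurveDeg (phi phi_eq_of_integral)

variable {k : Type u} [Field k] {X : Scheme.{u}} [IsIntegral X] [X.Over (Spec (CommRingCat.of k))]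
  [IsProper (X ↘ Spec (CommRingCat.of k))]

/-- Degrees of invertible modules add under tensor product. -/
theorem deg_tensor (hd : topologicalKrullDim X = 1) {N L : X.Modules} (hN : PicF.IsInvertible N)
    (hL : PicF.IsInvertible L) :
    Curv2.deg k X (CohB1.tensorMod N L) 1 = Curv2.deg k X N 1 + Curv2.deg k X L 1 := by
  haveI := Groth.L21.RR.isNoetherian_of_proper (X := X) k
  have hlen : Groth.L16.CohSupport.len (genericPoint X) L = 1 := by
    obtain ⟨e, he⟩ := Groth.L21.RR.exists_frame_stalk hL (genericPoint X)
    letI : Field (X.presheaf.stalk (genericPoint X)) := inferInstanceAs (Field X.functionField)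
    rw [Groth.L16.CohSupport.len, ← (LinearEquiv.ofBijective (LinearMap.toSpanSingleton
      (X.presheaf.stalk (genericPoint X)) (L.presheaf.stalk (genericPoint X)) e) he).length_eq,
      Module.length_eq_finrank, Module.finrank_self]
    rfl
  have h1 := phi_eq_of_integral k hd (Groth.L22.CurveDeg.Det.isFinLocFreeOfRank_one_of_isInvertible hN)
    (Groth.L16.ProperFinite.isCoh_of_isInvertible hL)
  rw [hlen] at h1
  unfold phi at h1
  simp only [ENat.toNat_one, Nat.cast_one, one_mul] at h1
  unfold Curv2.deg at h1 ⊢
  push_cast at h1 ⊢
  linarith

end Groth.L21.Duality
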