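import Groth.Agent.L21.Duality.Corollaries
import Groth.Agent.L21.Duality.Deg
import Groth.Agent.L21.P1.Pencil
import Groth.Agent.L18.AmplePull
import Groth.Prelude.Def_LinSer

/-!
Pencils of degree two on smooth proper curves.
-/

set_option autoImplicit false
set_option backward.isDefEq.respectTransparency false
set_option linter.style.haveILetI false
universe u

open CategoryTheory CategoryTheory.Limits AlgebraicGeometry TopologicalSpace Opposite

noncomputable section

namespace Groth.L21.Duality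

open Groth.L18.PUP (P pr)
open Groth.L00.Tensor
open Groth.L21.RR (h st)
open Groth.L21.P1 (O sumO h_O h_sumO)

variable {k : Type u} [Field k] {X : Scheme.{u}} [IsIntegral X] [X.Over (Spec (CommRingCat.of k))]
  [IsProper (X ↘ Spec (CommRingCat.of k))]

/-- Cohomology of twists of a module with split direct image. -/
theorem h_tensor_pullback_twist (f : X ⟶ P 1 k) [IsFinite f] (hf : f ≫ pr 1 k = X ↘ Spec (CommRingCat.of k))
    {M : X.Modules} (hM : PicF.IsInvertible M) {n : ℕ} (d : Fin n → ℤ)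
    (θ : sumO k d ≅ (Scheme.Modules.pushforward f).obj M) (m : ℤ) (p : ℕ) :
    h k p (CohB1.tensorMod ((Scheme.Modules.pullback f).obj (O k m)) M) = ∑ l, h k p (O k (m + d l)) := by
  haveI := Groth.L21.RR.isNoetherian_of_proper (X := X) k
  haveI := Groth.L21.P1.isSeparated_P k
  have hO : FlatMod.IsFinLocFree (O k m) := Groth.L16.Existence.isFinLocFree_of_isInvertible
    (Groth.L16.ProjTwist.isInvertible_twistProjSpace 1 k _)
  obtain ⟨t⟩ := Groth.L21.P1.nonempty_tensor_sumO k m d
  haveI : Coh.IsQCoh (CohB1.tensorMod ((Scheme.Modules.pullback f).obj (O k m)) M) :=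
    (Groth.L16.ProperFinite.isCoh_of_isInvertible (Groth.L18.GenLoc.isInvertible_tensor
      (Groth.L18.Ample.isInvertible_pullback f (Groth.L16.ProjTwist.isInvertible_twistProjSpace 1 k m)) hM)).1
  haveI := Groth.L17.ProjFormula.isIso_θ f (O k m) M hO
  rw [← Groth.L21.P1.h_push_affine k f hf _ p, ← Groth.L21.RR.h_congr k (t.symm ≪≫ tensorIso (Iso.refl _) θ ≪≫
      asIso (Groth.L17.ClosedPush.θ f M (O k m))) p, h_sumO]

variable [Smooth (X ↘ Spec (CommRingCat.of k))]

/-- A pencil of degree two on a curve of positive genus has no base point. -/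
theorem gen_of_deg_two (hd : topologicalKrullDim X = 1) (h0 : h k 0 (Coh.structureModule X) = 1)
    (hg : 1 ≤ h k 1 (Coh.structureModule X)) {L : X.Modules} (hL : PicF.IsInvertible L)
    (hdeg : Curv2.deg k X L 1 = 2) (hL0 : 2 ≤ h k 0 L) :
    h k 0 L = 2 ∧ ∀ x : X, ∃ φ : Coh.structureModule X ⟶ L, Function.Surjective (st φ x) := by
  haveI := Groth.L21.RR.isNoetherian_of_proper (X := X) k
  have hle := h0_le_deg hd.le h0 hg hL (by omega)
  refine ⟨by omega, fun x => ?_⟩
  obtain ⟨P, hP, hxP⟩ := Groth.L21.RR.exists_closed_specialization x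
  suffices hs : ∃ φ : Coh.structureModule X ⟶ L, Function.Surjective (st φ P) from
    hs.imp fun φ hφ => Groth.L21.RR.surjective_st_of_specializes hL hxP hφ
  by_contra hns
  push Not at hns
  obtain ⟨M, ι, -, hM, heM, hM0⟩ := Groth.L21.RR.exists_minus_point k hd hL hP
  have hM0' := hM0 hns
  letI := Curv2.resAlgebra k X P
  haveI := Groth.L21.Disc.finite_residueField_of_isClosed k hP
  have hdP : 0 < Module.finrank k (X.residueField P) := Module.finrank_pos
  have hdegM : Curv2.deg k X M 1 = 2 - Module.finrank k (X.residueField P) := by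
    rw [← hdeg, Curv2.deg, Curv2.deg, heM]; ring
  have hnt : Nontrivial (Coh.HH X M 0) :=
    not_subsingleton_iff_nontrivial.1 fun hs => by
      have := Groth.L21.RR.h_eq_zero_of_subsingleton k hs
      omega
  rcases lt_trichotomy (Curv2.deg k X M 1) 0 with hlt | heq | hgt
  · have := Groth.L21.RR.deg_nonneg k hd.le hM hnt
    omega
  · obtain ⟨i⟩ := nonempty_iso_of_deg_eq_zero hd.le hM heq hnt
    rw [← Groth.L21.RR.h_congr k i 0, h0] at hM0'
    omega
  · have := h0_le_deg hd.le h0 hg hM hgt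
    omega

/-- The invariants of the pullback of `O(1)` along a double cover. -/
theorem pullback_O_one_invariants (hd : topologicalKrullDim X = 1) (h0 : h k 0 (Coh.structureModule X) = 1)
    (hg : 1 ≤ h k 1 (Coh.structureModule X)) (f : X ⟶ P 1 k) [IsFinite f]
    (hf : f ≫ pr 1 k = X ↘ Spec (CommRingCat.of k))
    (hn : FlatMod.IsFinLocFreeOfRank 2 ((Scheme.Modules.pushforward f).obj (Coh.structureModule X))) :
    Curv2.deg k X ((Scheme.Modules.pullback f).obj (O k 1)) 1 = 2 ∧
      h k 0 ((Scheme.Modules.pullback f).obj (O k 1)) = 2 := by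
  obtain ⟨θ⟩ := Groth.L21.P1.exists_iso_push f hf hn h0
  refine ⟨Groth.L21.P1.deg_pullback_O_one f hd.le hf hn, ?_⟩
  rw [← Groth.L21.RR.h_congr k (tensorUnitRight ((Scheme.Modules.pullback f).obj (O k 1))) 0,
    h_tensor_pullback_twist f hf (Groth.L18.Ample.isInvertible_structureModule X) _ θ 1 0, Fin.sum_univ_two,
    (h_O k _).1, (h_O k _).1]
  simp only [Matrix.cons_val_zero, Matrix.cons_val_one]
  omega

/-- In genus at least two the pencil of degree two is unique. -/
theorem nonempty_iso_of_deg_two (hd : topologicalKrullDim X = 1) (h0 : h k 0 (Coh.structureModule X) = 1)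
    (hg : 2 ≤ h k 1 (Coh.structureModule X)) {M M' : X.Modules} (hM : PicF.IsInvertible M)
    (hM' : PicF.IsInvertible M') (hdeg : Curv2.deg k X M 1 = 2) (hdeg' : Curv2.deg k X M' 1 = 2)
    (hM0 : 2 ≤ h k 0 M) (hM0' : 2 ≤ h k 0 M') : Nonempty (M ≅ M') := by
  haveI := Groth.L21.RR.isNoetherian_of_proper (X := X) k
  haveI := Groth.L21.RR.isNoetherian_of_proper (X := P 1 k) k
  obtain ⟨hM2, hgen⟩ := gen_of_deg_two hd h0 (by omega) hM hdeg hM0
  obtain ⟨hM2', -⟩ := gen_of_deg_two hd h0 (by omega) hM' hdeg' hM0'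
  obtain ⟨f, hfin, hflat, hf, hrk, hn, ⟨τ⟩, -, -⟩ :=
    Groth.L21.P1.exists_separable_double_cover hd h0 (by omega) hM hdeg hM2 hgen
  haveI := hfin
  haveI := hflat
  have hr : FlatMod.IsFinLocFree ((Scheme.Modules.pushforward f).obj M') := by
    haveI : LocallyOfFinitePresentation f := inferInstance
    exact Groth.L20.ResDescent.isFinLocFree_push f ⟨inferInstance, inferInstance, inferInstance⟩ M'
      (Groth.L16.Existence.isFinLocFree_of_isInvertible hM')
  obtain ⟨r, hr⟩ := Groth.L21.Disc.exists_rank hr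
  obtain ⟨d, -, ⟨θ⟩⟩ := Groth.L21.P1.exists_splitting k hr
  have ht : ∀ (m : ℤ) (p : ℕ), h k p (CohB1.tensorMod ((Scheme.Modules.pullback f).obj (O k m)) M') =
      ∑ l, h k p (O k (m + d l)) := h_tensor_pullback_twist f hf hM' d θ
  obtain ⟨e0⟩ := Groth.L16.ProjTwist.nonempty_twist_zero_iso (CohB1.polyGrading 1 k)
  let i0 : CohB1.tensorMod ((Scheme.Modules.pullback f).obj (O k 0)) M' ≅ M' :=
    tensorIso ((Scheme.Modules.pullback f).mapIso e0 ≪≫ Groth.L29.LocFree.pullbackUnitIso f) (Iso.refl M') ≪≫ tensorUnitLeft M'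
  have hsum : ∑ l, ((d l + 1).toNat) = 2 := by
    rw [← hM2', ← Groth.L21.RR.h_congr k i0 0, ht]
    exact Finset.sum_congr rfl fun l _ => by rw [(h_O k _).1, zero_add]
  have hdM : Curv2.deg k X M' 1 = Curv2.euler k X M' - Curv2.euler k X (Coh.structureModule X) := by
    unfold Curv2.deg; simp
  rw [hdeg', Groth.L21.RR.euler_eq k hd.le, Groth.L21.RR.euler_eq k hd.le, h0, hM2'] at hdM
  have hsum1 : ∑ l, ((-d l - 1).toNat) = h k 1 M' := by
    rw [← Groth.L21.RR.h_congr k i0 1, ht]
    exact Finset.sum_congr rfl fun l _ => by rw [(h_O k _).2, zero_add]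
  have hinv : ∀ m, PicF.IsInvertible ((Scheme.Modules.pullback f).obj (O k m)) := fun m =>
    Groth.L18.Ample.isInvertible_pullback f (Groth.L16.ProjTwist.isInvertible_twistProjSpace 1 k m)
  obtain ⟨l₀, hl₀⟩ : ∃ l, 1 ≤ d l := by
    by_contra! hall
    have h1 := deg_tensor (k := k) hd (hinv 1) hM'
    have h2 := Groth.L21.P1.deg_pullback_O_one f hd.le hf hn
    rw [h2, hdeg', Curv2.deg, Groth.L21.RR.euler_eq k hd.le, Groth.L21.RR.euler_eq k hd.le, ht 1 0, ht 1 1, h0] at h1
    have h5 : ((∑ l, h k 0 (O k (1 + d l)) : ℕ) : ℤ) - ((∑ l, h k 1 (O k (1 + d l)) : ℕ) : ℤ) =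
        (((∑ l, (d l + 1).toNat) : ℕ) : ℤ) - (((∑ l, (-d l - 1).toNat) : ℕ) : ℤ) + (r : ℤ) := by
      push_cast
      have hr1 : (r : ℤ) = ∑ _l : Fin r, (1 : ℤ) := by simp
      rw [hr1, ← Finset.sum_sub_distrib, ← Finset.sum_sub_distrib, ← Finset.sum_add_distrib]
      refine Finset.sum_congr rfl fun l _ => ?_
      rw [(h_O k _).1, (h_O k _).2]
      omega
    rw [h5, hsum, hsum1] at h1
    have hr2 : r = 2 := by omega
    subst hr2
    rw [Fin.sum_univ_two] at hsum hsum1
    have := hall 0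
    have := hall 1
    omega
  let N := CohB1.tensorMod ((Scheme.Modules.pullback f).obj (O k (-1))) M'
  have hN : PicF.IsInvertible N := Groth.L18.GenLoc.isInvertible_tensor (hinv _) hM'
  obtain ⟨e11⟩ := Groth.L16.ProjTwist.nonempty_tensor_twist_iso_one (CohB1.polyGrading 1 k)
    (Groth.L21.P1.exists_basicOpen_one k) 1 (-1)
  let i11 : CohB1.tensorMod ((Scheme.Modules.pullback f).obj (O k 1)) ((Scheme.Modules.pullback f).obj (O k (-1))) ≅
      Coh.structureModule X :=
    Groth.L29.DC.PullTensor.pullTensor f _ _ ≪≫ (Scheme.Modules.pullback f).mapIso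
      (e11 ≪≫ eqToIso (by norm_num) ≪≫ e0) ≪≫ Groth.L29.LocFree.pullbackUnitIso f
  have hdegN : Curv2.deg k X N 1 = 0 := by
    have h1 := deg_tensor (k := k) hd (hinv (-1)) hM'
    have h2 := deg_tensor (k := k) hd (hinv 1) (hinv (-1))
    have h3 := Groth.L21.RR.deg_congr k i11 1
    rw [Groth.L22.CurveDeg.deg_structure] at h3
    have h4 := Groth.L21.P1.deg_pullback_O_one f hd.le hf hn
    show Curv2.deg k X N 1 = 0
    rw [h1]
    omega
  have hN0 : Nontrivial (Coh.HH X N 0) :=
    not_subsingleton_iff_nontrivial.1 fun hs => by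
      have h1 := Groth.L21.RR.h_eq_zero_of_subsingleton k hs
      rw [ht] at h1
      have h2 := Finset.sum_eq_zero_iff.1 h1 l₀ (Finset.mem_univ _)
      rw [(h_O k _).1] at h2
      omega
  obtain ⟨i⟩ := nonempty_iso_of_deg_eq_zero hd.le hN hdegN hN0
  exact ⟨τ.symm ≪≫ (tensorUnitRight _).symm ≪≫ tensorIso (Iso.refl _) i ≪≫ (tensorAssoc _ _ _).symm ≪≫
    tensorIso i11 (Iso.refl M') ≪≫ tensorUnitLeft M'⟩

end Groth.L21.Duality

namespace Groth.L21.Duality

open Groth.L21.RR (h e0 e0_smul finite_HH')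

/-- A linear series bounds the sections from below. -/
theorem le_h0_of_isLinSer {k : Type u} [Field k] {X : Scheme.{u}} [X.Over (Spec (CommRingCat.of k))]
    [IsProper (X ↘ Spec (CommRingCat.of k))] {M : X.Modules} {d r : ℕ} {s : Fin (r + 1) → LinSer.Sect X M}
    (hM : LinSer.IsLinSer k X M d r s) : r + 1 ≤ h k 0 M := by
  haveI := Groth.L21.RR.isNoetherian_of_proper (X := X) k
  haveI := finite_HH' k (Groth.L16.ProperFinite.isCoh_of_isInvertible hM.1) 0
  have hli : LinearIndependent k fun j => (e0 M).symm (s j) := by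
    refine Fintype.linearIndependent_iff.2 fun c hc => ?_
    refine congrFun (hM.2.2 c ?_)
    have h1 := congrArg (e0 M) hc
    simp only [map_sum, map_zero, e0_smul, AddEquiv.apply_symm_apply] at h1
    exact h1
  simpa using hli.fintype_card_le_finrank

end Groth.L21.Duality
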