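import Groth.Agent.L21.RR.VeryAmpleIff
import Groth.Agent.L21.Duality.Canonical
import Groth.Agent.L21.Duality.Pencils
import Groth.Agent.L21.Duality.Deg

/-!
The canonical module is very ample exactly when there is no pencil of degree two.
-/

set_option autoImplicit false
set_option backward.isDefEq.respectTransparency false
set_option linter.style.haveILetI false
universe u

open CategoryTheory CategoryTheory.Limits AlgebraicGeometry TopologicalSpace Opposite

noncomputable section

namespace Groth.L21.Duality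

open Groth.L21.RR (h ptI st hk e0 e0_smul finite_HH' twist_point twist_two_points)
open Groth.L00.Tensor (tensorAssoc tensorComm tensorIso tensorUnitRight tensorUnitLeft)

variable {k : Type u} [Field k] {X : Scheme.{u}} [IsIntegral X] [X.Over (Spec (CommRingCat.of k))]
  [IsProper (X ↘ Spec (CommRingCat.of k))]

omit [IsIntegral X] in
/-- Enough sections give a linear series. -/
theorem exists_isLinSer {M : X.Modules} (hM : PicF.IsInvertible M) {d r : ℕ}
    (hd : Curv2.deg k X M 1 = d) (hr : r + 1 ≤ h k 0 M) :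
    ∃ s : Fin (r + 1) → LinSer.Sect X M, LinSer.IsLinSer k X M d r s := by
  haveI := Groth.L21.RR.isNoetherian_of_proper (X := X) k
  haveI := finite_HH' k (Groth.L16.ProperFinite.isCoh_of_isInvertible hM) 0
  let b := Module.finBasis k (Coh.HH X M 0)
  refine ⟨fun j => e0 M (b (Fin.castLE hr j)), hM, hd, fun c hc => ?_⟩
  have hli : LinearIndependent k fun j : Fin (r + 1) => b (Fin.castLE hr j) :=
    b.linearIndependent.comp _ (Fin.castLE_injective _)
  refine funext (Fintype.linearIndependent_iff.1 hli c ((e0 M).injective ?_))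
  rw [map_zero, map_sum]
  exact (Finset.sum_congr rfl fun j _ => e0_smul k M _ _).trans hc

variable [IsAlgClosed k] [Smooth (X ↘ Spec (CommRingCat.of k))]

omit [IsAlgClosed k] [Smooth (X ↘ Spec (CommRingCat.of k))] in
/-- A section of a module of non-zero degree vanishes somewhere. -/
theorem exists_not_surjective (hd : topologicalKrullDim X ≤ 1) {A : X.Modules}
    (hA : PicF.IsInvertible A) (hdeg : Curv2.deg k X A 1 ≠ 0) (φ : Coh.structureModule X ⟶ A) :
    ∃ Q : X, IsClosed ({Q} : Set X) ∧ ¬ Function.Surjective (st φ Q) := by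
  by_contra hall
  push Not at hall
  haveI := Groth.L21.RR.isNoetherian_of_proper (X := X) k
  have hsurj : ∀ x : X, Function.Surjective (st φ x) := fun x => by
    obtain ⟨z, hz, hxz⟩ := Groth.L21.RR.exists_closed_specialization x
    exact Groth.L21.RR.surjective_st_of_specializes hA hxz (hall z hz)
  haveI : Epi φ := (Groth.L21.Mod.epi_iff_stalk_surjective φ).2 hsurj
  have hφ : φ ≠ 0 := fun h0 => by
    obtain ⟨e, he⟩ := Groth.L21.RR.exists_frame_stalk hA (genericPoint X)
    obtain ⟨w, hw⟩ := hsurj (genericPoint X) e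
    rw [h0, st, Functor.map_zero] at hw
    exact one_ne_zero (α := X.presheaf.stalk (genericPoint X)) (he.1 (a₁ := 1) (a₂ := 0)
      (((one_smul _ e).trans hw.symm).trans (zero_smul _ e).symm))
  haveI := Groth.L21.RR.mono_of_ne_zero hA hφ
  haveI : IsIso φ := isIso_of_mono_of_epi φ
  refine hdeg ?_
  rw [Curv2.deg, ← Groth.L21.RR.euler_congr k (asIso φ)]
  simp

/-- The canonical module is very ample exactly when there is no pencil of degree two. -/
theorem drop_omega_iff (hd : topologicalKrullDim X = 1) (h0 : h k 0 (Coh.structureModule X) = 1)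
    (hg : 2 ≤ h k 1 (Coh.structureModule X)) :
    (∀ (P Q : X) (hP : IsClosed ({P} : Set X)) (hQ : IsClosed ({Q} : Set X)),
      h k 0 (CohB1.tensorMod (Omega.sheaf (X ↘ Spec (CommRingCat.of k))) (CohB1.tensorMod (ptI P hP) (ptI Q hQ))) + 2 =
        h k 0 (Omega.sheaf (X ↘ Spec (CommRingCat.of k)))) ↔
      ¬ ∃ (M : X.Modules) (s : Fin 2 → LinSer.Sect X M), LinSer.IsLinSer k X M 2 1 s := by
  haveI := Groth.L21.RR.isNoetherian_of_proper (X := X) k
  have hΩ := isInvertible_omega (k := k) hd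
  obtain ⟨hΩ0, hΩ1, hΩd⟩ := omega_invariants (k := k) (X := X) hd
  have hΩd' : Curv2.deg k X (Omega.sheaf (X ↘ Spec (CommRingCat.of k))) 1 =
      2 * (h k 1 (Coh.structureModule X) : ℤ) - 2 := hΩd h0
  constructor
  · rintro hD ⟨M, s, hM⟩
    have hM0 : 2 ≤ h k 0 M := le_h0_of_isLinSer hM
    obtain ⟨P, hP, -⟩ := Groth.L21.RR.exists_closed_specialization (genericPoint X)
    obtain ⟨hA, -, hdA, -, hleA, -⟩ := twist_point k hd hM.1 hP
    haveI : Nontrivial (Coh.HH X (CohB1.tensorMod M (ptI P hP)) 0) :=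
      not_subsingleton_iff_nontrivial.1 fun hs => by
        have := Groth.L21.RR.h_eq_zero_of_subsingleton k hs
        omega
    obtain ⟨φ, hφ⟩ := Groth.L21.RR.exists_hom_ne_zero (L := CohB1.tensorMod M (ptI P hP))
    have hdeg := hM.2.1
    obtain ⟨Q, hQ, hns⟩ := exists_not_surjective (k := k) hd.le hA (by omega) φ
    obtain ⟨hB, -, hdB, -, -, -⟩ := twist_point k hd hA hQ
    obtain ⟨ψ, hψ⟩ := (Groth.L21.RR.isMinusPt_twι hA hQ).exists_lift_section hA φ hns
    haveI : Nontrivial (Coh.HH X (CohB1.tensorMod (CohB1.tensorMod M (ptI P hP)) (ptI Q hQ)) 0) := by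
      refine ⟨(e0 _).symm (ψ.app ⊤ (Groth.L21.RR.oneSec X)), 0, fun h1 => hφ ?_⟩
      rw [← hψ, show ψ = 0 from Groth.L21.RR.hom_ext_one (((e0 _).symm.injective (h1.trans (map_zero _).symm)).trans rfl),
        zero_comp]
    obtain ⟨i⟩ := nonempty_iso_of_deg_eq_zero (k := k) hd.le hB (by omega) inferInstance
    let Ω := Omega.sheaf (X ↘ Spec (CommRingCat.of k))
    let I := CohB1.tensorMod (ptI P hP) (ptI Q hQ)
    obtain ⟨hN, heN, -, -, -⟩ := twist_two_points k hd hΩ hP hQ
    let e : CohB1.tensorMod M (CohB1.tensorMod Ω I) ≅ Ω :=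
      (tensorAssoc M Ω I).symm ≪≫ tensorIso (tensorComm M Ω) (Iso.refl I) ≪≫ tensorAssoc Ω M I ≪≫
        tensorIso (Iso.refl Ω) ((tensorAssoc M (ptI P hP) (ptI Q hQ)).symm ≪≫ i.symm) ≪≫ tensorUnitRight Ω
    have h1 := (duality hd hM.1 hN e).1
    rw [Groth.L21.RR.euler_eq k hd.le, Groth.L21.RR.euler_eq k hd.le, hΩ0, hΩ1, h0, ← h1] at heN
    have := hD P Q hP hQ
    push_cast at heN
    omega
  · intro hno P Q hP hQ
    obtain ⟨hN, heN, hdN, hle, -⟩ := twist_two_points k hd hΩ hP hQ
    obtain ⟨D, hD, ⟨e⟩, hD0, -⟩ := exists_dual (k := k) hd hN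
    by_contra hne
    have hsum := deg_tensor (k := k) hd hD hN
    rw [show Curv2.deg k X (CohB1.tensorMod D (CohB1.tensorMod (Omega.sheaf (X ↘ Spec (CommRingCat.of k)))
        (CohB1.tensorMod (ptI P hP) (ptI Q hQ)))) 1 = Curv2.deg k X (Omega.sheaf (X ↘ Spec (CommRingCat.of k))) 1 by
      rw [Curv2.deg, Curv2.deg, Groth.L21.RR.euler_congr k e]] at hsum
    have hdD : Curv2.deg k X D 1 = ((2 : ℕ) : ℤ) := by push_cast; omega
    rw [Groth.L21.RR.euler_eq k hd.le, Groth.L21.RR.euler_eq k hd.le, hΩ0, hΩ1, h0, ← hD0] at heN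
    push_cast at heN
    have hD2 : 1 + 1 ≤ h k 0 D := by omega
    obtain ⟨s, hs⟩ := exists_isLinSer (r := 1) hD hdD hD2
    exact hno ⟨D, s, hs⟩

end Groth.L21.Duality
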