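import Groth.Agent.L21.Duality.Special
import Groth.Agent.L21.Duality.NotHyperelliptic

/-!
Equality in Clifford's theorem: such series are multiples of a pencil of degree two.
-/

set_option autoImplicit false
set_option backward.isDefEq.respectTransparency false
set_option linter.style.haveILetI false
universe u

open CategoryTheory CategoryTheory.Limits AlgebraicGeometry TopologicalSpace Opposite

noncomputable section

namespace Groth.L21.Duality

open Groth.L21.RR (h st mulS mono_mulS mono_of_ne_zero exists_range_mulS h0_add_le_of_inter ptI twist_point)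
open Groth.L00.Tensor (tensorAssoc tensorComm tensorIso tensorUnitLeft tensorUnitRight tensorPowAdd)

variable {k : Type u} [Field k] {X : Scheme.{u}} [IsIntegral X] [X.Over (Spec (CommRingCat.of k))]
  [IsProper (X ↘ Spec (CommRingCat.of k))]

/-- `h⁰(D) + h⁰(E) ≤ h⁰(lcm) + h⁰(gcd)`. -/
theorem h0_add_le_of_common_factor {A L N : X.Modules} (hA : PicF.IsInvertible A) (hL : PicF.IsInvertible L)
    (hN : PicF.IsInvertible N) {s : Coh.structureModule X ⟶ L} {t : Coh.structureModule X ⟶ N} (hs : s ≠ 0)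
    (ht : t ≠ 0)
    (hcz : ∀ x : X, IsClosed ({x} : Set X) → Function.Surjective (st s x) ∨ Function.Surjective (st t x)) :
    h k 0 (CohB1.tensorMod A L) + h k 0 (CohB1.tensorMod A N) ≤
      h k 0 (CohB1.tensorMod (CohB1.tensorMod A L) N) + h k 0 A := by
  haveI := Groth.L21.RR.isNoetherian_of_proper (X := X) k
  have hAL := Groth.L18.GenLoc.isInvertible_tensor hA hL
  have hAN := Groth.L18.GenLoc.isInvertible_tensor hA hN
  haveI := mono_mulS hAL hN ht
  haveI := mono_mulS hAN hL hs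
  haveI := mono_mulS hA hL hs
  let σi : CohB1.tensorMod (CohB1.tensorMod A N) L ≅ CohB1.tensorMod (CohB1.tensorMod A L) N :=
    tensorAssoc A N L ≪≫ tensorIso (Iso.refl A) (tensorComm N L) ≪≫ (tensorAssoc A L N).symm
  refine h0_add_le_of_inter k
    (Groth.L16.ProperFinite.isCoh_of_isInvertible (Groth.L18.GenLoc.isInvertible_tensor hAL hN))
    (Groth.L16.ProperFinite.isCoh_of_isInvertible hA) (mulS (CohB1.tensorMod A L) t)
    (mulS (CohB1.tensorMod A N) s ≫ σi.hom) (mulS A s ≫ mulS (CohB1.tensorMod A L) t) fun x v hv₁ hv₂ => ?_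
  obtain ⟨σ, hσ, -, hσM⟩ := exists_range_mulS hL s x
  obtain ⟨τ, hτ, -, hτM⟩ := exists_range_mulS hN t x
  obtain ⟨w₁, rfl⟩ := (hτM _ hAL v).1 hv₁
  obtain ⟨r, hr⟩ := hv₂
  rw [Groth.L21.RR.st_comp] at hr
  obtain ⟨w₀, hw₀⟩ := (hσM _ hAN _).1 ⟨r, rfl⟩
  rw [← hw₀, map_smul] at hr
  obtain ⟨z, hz, hxz⟩ := Groth.L21.RR.exists_closed_specialization x
  have hall : Function.Surjective (st s x) ∨ Function.Surjective (st t x) :=
    (hcz z hz).imp (Groth.L21.RR.surjective_st_of_specializes hL hxz)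
      (Groth.L21.RR.surjective_st_of_specializes hN hxz)
  obtain ⟨w, hw⟩ : ∃ w, τ • w₁ = σ • τ • w := by
    rcases hall.imp hσ.2 hτ.2 with hu | hu
    · exact ⟨(↑hu.unit⁻¹ : X.presheaf.stalk x) • w₁, by
        rw [smul_comm σ, smul_smul σ, IsUnit.mul_val_inv, one_smul]⟩
    · exact ⟨(↑hu.unit⁻¹ : X.presheaf.stalk x) • st σi.hom x w₀,
        by rw [smul_smul τ, IsUnit.mul_val_inv, one_smul, hr]⟩
  obtain ⟨p, hp⟩ := (hτM _ hAL (τ • w)).2 ⟨w, rfl⟩
  obtain ⟨p', hp'⟩ := (hσM A hA (σ • p)).2 ⟨p, rfl⟩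
  refine ⟨p', ?_⟩
  rw [Groth.L21.RR.st_comp, hp', map_smul, hp, hw]

variable [Smooth (X ↘ Spec (CommRingCat.of k))] [IsAlgClosed k]

/-- Splitting off the common zeros of two sections. -/
theorem exists_common_factor (hd : topologicalKrullDim X = 1) {L N : X.Modules} (hL : PicF.IsInvertible L)
    (hN : PicF.IsInvertible N) {s : Coh.structureModule X ⟶ L} {t : Coh.structureModule X ⟶ N} (hs : s ≠ 0)
    (ht : t ≠ 0) {Q : X} (hQ : IsClosed ({Q} : Set X)) (hsQ : ¬ Function.Surjective (st s Q))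
    (htQ : Function.Surjective (st t Q)) :
    ∃ (A L' N' : X.Modules) (s' : Coh.structureModule X ⟶ L') (t' : Coh.structureModule X ⟶ N'),
      PicF.IsInvertible A ∧ PicF.IsInvertible L' ∧ PicF.IsInvertible N' ∧
      Nonempty (CohB1.tensorMod A L' ≅ L) ∧ Nonempty (CohB1.tensorMod A N' ≅ N) ∧ s' ≠ 0 ∧ t' ≠ 0 ∧
      (∀ x : X, IsClosed ({x} : Set X) → Function.Surjective (st s' x) ∨ Function.Surjective (st t' x)) ∧
      0 ≤ Curv2.deg k X A 1 ∧ 1 ≤ Curv2.deg k X L' 1 ∧
      ((∃ P : X, IsClosed ({P} : Set X) ∧ ¬ Function.Surjective (st s P) ∧ ¬ Function.Surjective (st t P)) →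
        1 ≤ Curv2.deg k X A 1) := by
  classical
  haveI := Groth.L21.RR.isNoetherian_of_proper (X := X) k
  have hnn : ∀ {B : X.Modules}, PicF.IsInvertible B → ∀ {φ : Coh.structureModule X ⟶ B}, φ ≠ 0 →
      0 ≤ Curv2.deg k X B 1 := fun {B} hB {φ} hφ => by
    rw [Groth.L21.RR.deg_eq_h0_cokernel k hd.le hB hφ]
    positivity
  induction hn : (Curv2.deg k X L 1).toNat using Nat.strong_induction_on generalizing L N with
  | _ n ih =>
    by_cases hc : ∃ P : X, IsClosed ({P} : Set X) ∧ ¬ Function.Surjective (st s P) ∧ ¬ Function.Surjective (st t P)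
    · obtain ⟨P, hP, hsP, htP⟩ := hc
      obtain ⟨hL₁, -, hdL, -⟩ := twist_point k hd hL hP
      obtain ⟨hN₁, -, -, -⟩ := twist_point k hd hN hP
      have hιL := Groth.L21.RR.isMinusPt_twι hL hP
      have hιN := Groth.L21.RR.isMinusPt_twι hN hP
      obtain ⟨s₁, rfl⟩ := hιL.exists_lift_section hL s hsP
      obtain ⟨t₁, rfl⟩ := hιN.exists_lift_section hN t htP
      have hs₁ : s₁ ≠ 0 := fun h0 => hs (by rw [h0, zero_comp])
      have ht₁ : t₁ ≠ 0 := fun h0 => ht (by rw [h0, zero_comp])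
      have hQP : Q ≠ P := fun h0 => htP (h0 ▸ htQ)
      have hd₁ := hnn hL₁ hs₁
      obtain ⟨A, L', N', s', t', hA, hL', hN', ⟨i⟩, ⟨j⟩, hs', ht', hcz, hdA, hdL', -⟩ :=
        ih _ (by omega) hL₁ hN₁ hs₁ ht₁ (fun h0 => hsQ ((hιL.surjective_comp_iff hQP s₁).2 h0))
          ((hιN.surjective_comp_iff hQP t₁).1 htQ) rfl
      obtain ⟨hI0, -, hdI0, -⟩ := twist_point k hd (Groth.L18.Ample.isInvertible_structureModule X) hP
      have hI : PicF.IsInvertible (ptI P hP) :=
        Groth.L18.Ample.isInvertible_of_iso (tensorUnitLeft _) hI0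
      obtain ⟨D, hD, ⟨c⟩⟩ := Groth.L08.Cube.exists_inverse hI
      have hdD : Curv2.deg k X D 1 = 1 := by
        have h1 := deg_tensor (k := k) hd hI hD
        rw [deg_congr (k := k) c] at h1
        rw [deg_congr (k := k) (tensorUnitLeft (ptI P hP))] at hdI0
        rw [hdI0] at h1
        linarith
      let mk : ∀ {B B' : X.Modules}, (CohB1.tensorMod A B' ≅ CohB1.tensorMod B (ptI P hP)) →
          (CohB1.tensorMod (CohB1.tensorMod A D) B' ≅ B) := fun {B B'} i =>
        tensorAssoc A D B' ≪≫ tensorIso (Iso.refl A) (tensorComm D B') ≪≫ (tensorAssoc A B' D).symm ≪≫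
          tensorIso i (Iso.refl D) ≪≫ tensorAssoc B _ D ≪≫ tensorIso (Iso.refl B) c ≪≫ tensorUnitRight B
      have hdA' : 1 ≤ Curv2.deg k X (CohB1.tensorMod A D) 1 := by
        rw [deg_tensor (k := k) hd hA hD, hdD]
        omega
      exact ⟨_, L', N', s', t', Groth.L18.GenLoc.isInvertible_tensor hA hD, hL', hN', ⟨mk i⟩, ⟨mk j⟩, hs', ht',
        hcz, by omega, hdL', fun _ => hdA'⟩
    · have hdL : 1 ≤ Curv2.deg k X L 1 := by
        obtain ⟨hL₁, -, hdL, -⟩ := twist_point k hd hL hQ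
        obtain ⟨s₁, rfl⟩ := (Groth.L21.RR.isMinusPt_twι hL hQ).exists_lift_section hL s hsQ
        have := hnn hL₁ (φ := s₁) fun h0 => hs (by rw [h0, zero_comp])
        omega
      have hcz : ∀ x : X, IsClosed ({x} : Set X) → Function.Surjective (st s x) ∨ Function.Surjective (st t x) :=
        fun x hx => by
          by_contra hn'
          exact hc ⟨x, hx, fun h0 => hn' (Or.inl h0), fun h0 => hn' (Or.inr h0)⟩
      refine ⟨Coh.structureModule X, L, N, s, t, Groth.L18.Ample.isInvertible_structureModule X, hL, hN,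
        ⟨tensorUnitLeft L⟩, ⟨tensorUnitLeft N⟩, hs, ht, hcz, ?_, hdL, fun h0 => absurd h0 hc⟩
      rw [Curv2.deg]
      push_cast
      linarith

/-- A series with equality in Clifford's theorem yields a pencil of degree two. -/
theorem exists_deg_two_of_equality (hd : topologicalKrullDim X = 1) (h0 : h k 0 (Coh.structureModule X) = 1)
    {L : X.Modules} (hL : PicF.IsInvertible L) (heq : 2 * (h k 0 L : ℤ) = Curv2.deg k X L 1 + 2)
    (hpos : 0 < Curv2.deg k X L 1) (hlt : Curv2.deg k X L 1 < 2 * (Curv2.genus k X : ℤ) - 2) :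
    ∃ M : X.Modules, PicF.IsInvertible M ∧ Curv2.deg k X M 1 = 2 ∧ 2 ≤ h k 0 M := by
  classical
  haveI := Groth.L21.RR.isNoetherian_of_proper (X := X) k
  induction hn : (Curv2.deg k X L 1).toNat using Nat.strong_induction_on generalizing L with
  | _ n ih =>
    by_cases h2 : Curv2.deg k X L 1 ≤ 2
    · exact ⟨L, hL, by omega, by omega⟩
    obtain ⟨N, hN, ⟨e⟩, hN0, -⟩ := exists_dual (k := k) hd hL
    have hdN := deg_tensor (k := k) hd hN hL
    have hdΩ := (omega_invariants (k := k) (X := X) hd).2.2 h0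
    rw [deg_congr (k := k) e, hdΩ] at hdN
    have hrr := rr_deg (k := k) hd.le h0 L
    haveI : Nontrivial (Coh.HH X N 0) := nontrivial_of_h0_pos (k := k) (by omega)
    obtain ⟨t, ht⟩ := Groth.L21.RR.exists_hom_ne_zero (L := N)
    obtain ⟨P, hP, htP⟩ := exists_not_surjective (k := k) hd.le hN (by omega) t
    haveI : JacobsonSpace X := LocallyOfFiniteType.jacobsonSpace (X ↘ Spec (CommRingCat.of k))
    obtain ⟨Q, hQt, hQ⟩ : ∃ Q : X, Q ∈ CohB1.genLocus N t ∧ IsClosed ({Q} : Set X) := by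
      have hne : ((CohB1.genLocus N t : X.Opens) : Set X).Nonempty :=
        ⟨genericPoint X, (Groth.L21.RR.mem_genLocus_iff hN t _).2 (Groth.L21.RR.surjective_st_of_not_closed hd.le hN ht
          fun hc => ne_of_apply_ne id (Groth.L21.RR.ne_genericPoint_of_isClosed hd hc) rfl)⟩
      obtain ⟨Q, hQ1, hQ2⟩ := nonempty_inter_closedPoints hne (CohB1.genLocus N t).2.isLocallyClosed
      exact ⟨Q, hQ1, hQ2⟩
    obtain ⟨hL₂, -, -, hle2, -⟩ := Groth.L21.RR.twist_two_points k hd hL hP hQ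
    have hnt2 : Nontrivial (Coh.HH X (CohB1.tensorMod L (CohB1.tensorMod (ptI P hP) (ptI Q hQ))) 0) :=
      nontrivial_of_h0_pos (k := k) (by omega)
    obtain ⟨ψ₀, hψ₀⟩ := Groth.L21.RR.exists_hom_ne_zero (L := CohB1.tensorMod L (CohB1.tensorMod (ptI P hP) (ptI Q hQ)))
    let i := tensorAssoc L (ptI P hP) (ptI Q hQ)
    obtain ⟨hL₁, -⟩ := twist_point k hd hL hP
    have hιP := Groth.L21.RR.isMinusPt_twι hL hP
    have hιQ := Groth.L21.RR.isMinusPt_twι hL₁ hQ
    haveI := hιP.mono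
    haveI := hιQ.mono
    let ψ := ψ₀ ≫ i.inv
    have hQP : Q ≠ P := fun h => htP (h ▸ (Groth.L21.RR.mem_genLocus_iff hN t Q).1 hQt)
    have hs : (ψ ≫ Groth.L21.RR.twι (CohB1.tensorMod L (ptI P hP)) _) ≫ Groth.L21.RR.twι L _ ≠ 0 := fun h => hψ₀ (by
      have h1 : ψ = 0 := zero_of_comp_mono _ (zero_of_comp_mono _ h)
      exact zero_of_comp_mono i.inv h1)
    obtain ⟨A, L', N', s', t', hA, hL', hN', ⟨iL⟩, ⟨jN⟩, hs', ht', hcz, hdA0, hdL', hA1⟩ :=
      exists_common_factor (k := k) hd hL hN hs ht hQ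
        (fun h => hιQ.not_surjective_comp hL₁ ψ ((hιP.surjective_comp_iff hQP _).1 h))
        ((Groth.L21.RR.mem_genLocus_iff hN t Q).1 hQt)
    have hdA := hA1 ⟨P, hP, hιP.not_surjective_comp hL _, htP⟩
    have hsplit := deg_tensor (k := k) hd hA hL'
    rw [deg_congr (k := k) iL] at hsplit
    have hadd := h0_add_le_of_common_factor (k := k) hA hL' hN' hs' ht' hcz
    rw [Groth.L21.RR.h_congr k iL 0, Groth.L21.RR.h_congr k jN 0] at hadd
    have hALN := Groth.L18.GenLoc.isInvertible_tensor (Groth.L18.GenLoc.isInvertible_tensor hA hL') hN'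
    let u : CohB1.tensorMod (CohB1.tensorMod (CohB1.tensorMod A L') N') A ≅ Omega.sheaf (X ↘ Spec (CommRingCat.of k)) :=
      tensorAssoc (CohB1.tensorMod A L') N' A ≪≫ tensorIso iL (tensorComm N' A ≪≫ jN) ≪≫ tensorComm L N ≪≫ e
    rw [(duality (k := k) hd hALN hA u).1, hN0] at hadd
    have hrA := rr_deg (k := k) hd.le h0 A
    have hA0 : 1 ≤ h k 0 A := by omega
    have hA1' : 1 ≤ h k 1 A := by omega
    have hcl := clifford (k := k) hd h0 hA hA0 hA1'
    have hsum : h k 0 L + h k 1 L = Curv2.genus k X + 1 := by omega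
    have hdA2 : 2 * (h k 0 A : ℤ) = Curv2.deg k X A 1 + 2 := by omega
    exact ih _ (by omega) hA hdA2 (by omega) (by omega) rfl

/-- Powers of a pencil. -/
theorem succ_le_h0_tensorPow (hd : topologicalKrullDim X = 1) (h0 : h k 0 (Coh.structureModule X) = 1)
    {M : X.Modules} (hM : PicF.IsInvertible M) (h2 : 2 ≤ h k 0 M) : ∀ n : ℕ, n + 1 ≤ h k 0 (CohB1.tensorPow M n)
  | 0 => h0.ge
  | n + 1 => by
    have ih := succ_le_h0_tensorPow hd h0 hM h2 n
    have h1 := Groth.L21.RR.h0_add_le k hd (Groth.L18.Ample.isInvertible_tensorPow hM n) hM (by omega) (by omega)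
    rw [h0] at h1
    show n + 2 ≤ h k 0 (CohB1.tensorMod (CohB1.tensorPow M n) M)
    omega

omit [IsIntegral X] [Smooth (X ↘ Spec (CommRingCat.of k))] [IsAlgClosed k] in
theorem deg_structureModule : Curv2.deg k X (Coh.structureModule X) 1 = 0 := by
  rw [Curv2.deg]
  push_cast
  ring

omit [Smooth (X ↘ Spec (CommRingCat.of k))] [IsAlgClosed k] in
theorem deg_tensorPow (hd : topologicalKrullDim X = 1) {M : X.Modules} (hM : PicF.IsInvertible M) :
    ∀ n : ℕ, Curv2.deg k X (CohB1.tensorPow M n) 1 = n * Curv2.deg k X M 1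
  | 0 => by
    show Curv2.deg k X (Coh.structureModule X) 1 = _
    rw [deg_structureModule]
    push_cast
    ring
  | n + 1 => by
    show Curv2.deg k X (CohB1.tensorMod (CohB1.tensorPow M n) M) 1 = _
    rw [deg_tensor (k := k) hd (Groth.L18.Ample.isInvertible_tensorPow hM n) hM, deg_tensorPow hd hM n]
    push_cast
    ring

/-- The equality case of Clifford's theorem. -/
theorem clifford_equality (hd : topologicalKrullDim X = 1) (h0 : h k 0 (Coh.structureModule X) = 1)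
    {L : X.Modules} (hL : PicF.IsInvertible L) (h0L : 1 ≤ h k 0 L) (h1L : 1 ≤ h k 1 L)
    (hO : IsEmpty (L ≅ Coh.structureModule X)) (hK : IsEmpty (L ≅ Omega.sheaf (X ↘ Spec (CommRingCat.of k))))
    (heq : 2 * (h k 0 L : ℤ) = Curv2.deg k X L 1 + 2) :
    ∃ (N : X.Modules) (s : Fin 2 → LinSer.Sect X N), LinSer.IsLinSer k X N 2 1 s ∧
      Nonempty (L ≅ CohB1.tensorPow N (h k 0 L - 1)) := by
  haveI := Groth.L21.RR.isNoetherian_of_proper (X := X) k
  have hdΩ := (omega_invariants (k := k) (X := X) hd).2.2 h0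
  have hrr := rr_deg (k := k) hd.le h0 L
  obtain ⟨N', hN', ⟨e'⟩, hN0', -⟩ := exists_dual (k := k) hd hL
  have hdN' := deg_tensor (k := k) hd hN' hL
  rw [deg_congr (k := k) e', hdΩ] at hdN'
  have hpos : 0 < Curv2.deg k X L 1 := by
    rcases (Groth.L21.RR.deg_nonneg k hd.le hL (nontrivial_of_h0_pos (k := k) h0L)).lt_or_eq with h | h
    · exact h
    · obtain ⟨i⟩ := nonempty_iso_of_deg_eq_zero (k := k) hd.le hL h.symm (nontrivial_of_h0_pos (k := k) h0L)
      exact (hO.false i.symm).elim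
  have hlt : Curv2.deg k X L 1 < 2 * (Curv2.genus k X : ℤ) - 2 := by
    have hnn := Groth.L21.RR.deg_nonneg k hd.le hN' (nontrivial_of_h0_pos (k := k) (hN0' ▸ h1L))
    rcases hnn.lt_or_eq with h | h
    · omega
    · obtain ⟨i⟩ := nonempty_iso_of_deg_eq_zero (k := k) hd.le hN' h.symm (nontrivial_of_h0_pos (k := k) (hN0' ▸ h1L))
      exact (hK.false ((tensorUnitLeft L).symm ≪≫ tensorIso i (Iso.refl L) ≪≫ e')).elim
  obtain ⟨M, hM, hdM, hM0⟩ := exists_deg_two_of_equality (k := k) hd h0 hL heq hpos hlt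
  obtain ⟨s, hs⟩ := exists_isLinSer (k := k) (d := 2) (r := 1) hM (by rw [hdM]; rfl) hM0
  refine ⟨M, s, hs, ?_⟩
  obtain ⟨r, hr⟩ : ∃ r, h k 0 L = r + 1 := ⟨h k 0 L - 1, by omega⟩
  obtain ⟨m, hm⟩ : ∃ m, Curv2.genus k X = r + m + 1 := ⟨Curv2.genus k X - (r + 1), by omega⟩
  rw [hr, Nat.add_sub_cancel]
  have hMr := Groth.L18.Ample.isInvertible_tensorPow hM r
  have hMm := Groth.L18.Ample.isInvertible_tensorPow hM m
  have hg : h k 1 (Coh.structureModule X) = Curv2.genus k X := rfl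
  have hLM := Groth.L18.GenLoc.isInvertible_tensor hL hMm
  have hpm := succ_le_h0_tensorPow (k := k) hd h0 hM hM0 m
  have hadd := Groth.L21.RR.h0_add_le k hd hL hMm h0L (by omega)
  rw [h0] at hadd
  obtain ⟨a⟩ := nonempty_iso_omega (k := k) hd h0 hLM
    (by rw [deg_tensor (k := k) hd hL hMm, deg_tensorPow hd hM m, hdM, hg, hm]; push_cast; omega) (by omega)
  obtain ⟨b⟩ := nonempty_iso_omega (k := k) hd h0 (Groth.L18.Ample.isInvertible_tensorPow hM (r + m))
    (by rw [deg_tensorPow hd hM, hdM, hg, hm]; push_cast; omega)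
    (by have := succ_le_h0_tensorPow (k := k) hd h0 hM hM0 (r + m); omega)
  obtain ⟨B, hB, ⟨c⟩⟩ := Groth.L08.Cube.exists_inverse hMm
  let w : CohB1.tensorMod L (CohB1.tensorPow M m) ≅ CohB1.tensorMod (CohB1.tensorPow M r) (CohB1.tensorPow M m) :=
    a ≪≫ b.symm ≪≫ (tensorPowAdd M r m).symm
  exact ⟨(tensorUnitRight L).symm ≪≫ tensorIso (Iso.refl L) c.symm ≪≫ (tensorAssoc L _ B).symm ≪≫
    tensorIso w (Iso.refl B) ≪≫ tensorAssoc _ _ B ≪≫ tensorIso (Iso.refl _) c ≪≫ tensorUnitRight _⟩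

end Groth.L21.Duality
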