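import Groth.Agent.L21.RR.SectionProduct
import Groth.Agent.L21.Duality.Canonical
import Groth.Agent.L21.Duality.Deg
import Groth.Agent.L21.RR.GeomGenusZero

/-!
Special linear series: Clifford's inequality and small consequences of the pencil trick in genus nine.
-/

set_option autoImplicit false
set_option backward.isDefEq.respectTransparency false
set_option linter.style.haveILetI false
universe u

open CategoryTheory CategoryTheory.Limits AlgebraicGeometry TopologicalSpace Opposite

noncomputable section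

namespace Groth.L21.Duality

open Groth.L21.RR (h)
open Groth.L00.Tensor (tensorAssoc tensorComm tensorIso tensorUnitLeft tensorUnitRight)

variable {k : Type u} [Field k] {X : Scheme.{u}} [IsIntegral X] [X.Over (Spec (CommRingCat.of k))]
  [IsProper (X ↘ Spec (CommRingCat.of k))]

omit [IsIntegral X] in
/-- Riemann-Roch in terms of the degree. -/
theorem rr_deg (hd : topologicalKrullDim X ≤ 1) (h0 : h k 0 (Coh.structureModule X) = 1) (L : X.Modules) :
    (h k 0 L : ℤ) - h k 1 L = Curv2.deg k X L 1 + 1 - Curv2.genus k X := by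
  haveI := Groth.L21.RR.isNoetherian_of_proper (X := X) k
  rw [Curv2.deg, Groth.L21.RR.euler_eq k hd, Groth.L21.RR.euler_eq k hd, h0]
  show _ = _ - (h k 1 (Coh.structureModule X) : ℤ)
  push_cast
  ring

omit [IsIntegral X] in
theorem deg_congr {L L' : X.Modules} (e : L ≅ L') : Curv2.deg k X L 1 = Curv2.deg k X L' 1 := by
  haveI := Groth.L21.RR.isNoetherian_of_proper (X := X) k
  rw [Curv2.deg, Curv2.deg, Groth.L21.RR.euler_congr k e]

/-- A factor of an invertible module by an invertible module is invertible. -/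
theorem isInvertible_of_tensor_iso {D N H : X.Modules} (hD : PicF.IsInvertible D) (hH : PicF.IsInvertible H)
    (e : CohB1.tensorMod D N ≅ H) : PicF.IsInvertible N := by
  obtain ⟨D', hD', ⟨i⟩⟩ := Groth.L08.Cube.exists_inverse hD
  refine Groth.L18.Ample.isInvertible_of_iso ?_ (Groth.L18.GenLoc.isInvertible_tensor hD' hH)
  exact tensorIso (Iso.refl D') e.symm ≪≫ (tensorAssoc D' D N).symm ≪≫
    tensorIso (tensorComm D' D ≪≫ i) (Iso.refl N) ≪≫ tensorUnitLeft N

theorem one_le_h0_of_nontrivial {L : X.Modules} (hL : PicF.IsInvertible L) (hnt : Nontrivial (Coh.HH X L 0)) :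
    1 ≤ h k 0 L := by
  haveI := Groth.L21.RR.isNoetherian_of_proper (X := X) k
  haveI := Groth.L21.RR.finite_HH' k (Groth.L16.ProperFinite.isCoh_of_isInvertible hL) 0
  exact Module.finrank_pos

theorem nontrivial_of_h0_pos {L : X.Modules} (h1 : 1 ≤ h k 0 L) : Nontrivial (Coh.HH X L 0) :=
  not_subsingleton_iff_nontrivial.1 fun hs => by
    have := Groth.L21.RR.h_eq_zero_of_subsingleton k hs
    omega

variable [Smooth (X ↘ Spec (CommRingCat.of k))] [IsAlgClosed k]

/-- Clifford's inequality. -/
theorem clifford (hd : topologicalKrullDim X = 1) (h0 : h k 0 (Coh.structureModule X) = 1) {L : X.Modules}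
    (hL : PicF.IsInvertible L) (h0L : 1 ≤ h k 0 L) (h1L : 1 ≤ h k 1 L) :
    2 * (h k 0 L : ℤ) ≤ Curv2.deg k X L 1 + 2 := by
  haveI := Groth.L21.RR.isNoetherian_of_proper (X := X) k
  obtain ⟨N, hN, ⟨e⟩, hN0, -⟩ := exists_dual (k := k) hd hL
  have h2 := Groth.L21.RR.h0_add_le k hd hL hN h0L (hN0 ▸ h1L)
  rw [Groth.L21.RR.h_congr k (tensorComm L N ≪≫ e) 0, (omega_invariants (k := k) (X := X) hd).1, h0, hN0] at h2
  have hrr := rr_deg (k := k) hd.le h0 L
  change _ ≤ Curv2.genus k X + 1 at h2
  omega

end Groth.L21.Duality
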