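import Groth.Agent.L21.Duality.Special
import Groth.Agent.L21.RR.GenusOnePoint
import Groth.Agent.L21.Disc.SimplyConn

/-!
Degree zero classes on a curve of genus one with a rational point.
-/

set_option autoImplicit false
set_option backward.isDefEq.respectTransparency false
set_option linter.style.haveILetI false
universe u

open CategoryTheory CategoryTheory.Limits AlgebraicGeometry TopologicalSpace Opposite IsLocalRing

noncomputable section

namespace Groth.L21.Duality

open Groth.L21.RR (h st ptI)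
open Groth.L00.Tensor (tensorAssoc tensorComm tensorIso tensorUnitLeft tensorUnitRight)

attribute [local instance] Curv2.resAlgebra

variable {k : Type u} [Field k] {X : Scheme.{u}} [IsIntegral X] [X.Over (Spec (CommRingCat.of k))]
  [IsProper (X ↘ Spec (CommRingCat.of k))] [Smooth (X ↘ Spec (CommRingCat.of k))]

theorem deg_ptI (hd : topologicalKrullDim X = 1) {P : X} (hP : IsClosed ({P} : Set X)) :
    PicF.IsInvertible (ptI P hP) ∧ Curv2.deg k X (ptI P hP) 1 = -(Module.finrank k (X.residueField P) : ℤ) := by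
  have hreg := Groth.L07.SyntKoszul.isRegularLocalRing_of_smooth (X ↘ Spec (CommRingCat.of k)) P
  have h1 := Groth.L21.RR.idealMod_point_pow k hd hP hreg 1
  rw [pow_one] at h1
  refine ⟨h1.1, ?_⟩
  rw [Curv2.deg, h1.2]
  push_cast
  ring

theorem existsUnique_point (hd : topologicalKrullDim X = 1) (hg : Curv2.genus k X = 1) {O : X}
    (hOc : IsClosed ({O} : Set X)) (hO : Function.Bijective (Curv2.resMap k X O)) {L : X.Modules}
    (hL : PicF.IsInvertible L) (hdeg : Curv2.deg k X L 1 = 0) :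
    ∃! P : {x : X // IsClosed ({x} : Set X) ∧ Function.Bijective (Curv2.resMap k X x)},
      Nonempty (CohB1.tensorMod L (ptI P.1 P.2.1) ≅ ptI O hOc) := by
  haveI := Groth.L21.RR.isNoetherian_of_proper (X := X) k
  have h0 := Groth.L21.RR.h0_eq_one_of_rational k hO.2
  have hg' : h k 1 (Coh.structureModule X) = 1 := hg
  obtain ⟨hIO, hdIO⟩ := deg_ptI (k := k) hd hOc
  rw [Groth.L21.RR.finrank_residueField_of_surjective k hO.2] at hdIO
  obtain ⟨D, hD, ⟨c⟩⟩ := Groth.L08.Cube.exists_inverse hIO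
  have hdO : Curv2.deg k X (Coh.structureModule X) 1 = 0 := by rw [Curv2.deg]; push_cast; ring
  have hdD : Curv2.deg k X D 1 = 1 := by
    have h1 := deg_tensor (k := k) hd hIO hD
    rw [deg_congr (k := k) c, hdO, hdIO] at h1
    push_cast at h1
    omega
  let M := CohB1.tensorMod L D
  have hM : PicF.IsInvertible M := Groth.L18.GenLoc.isInvertible_tensor hL hD
  have hdM : Curv2.deg k X M 1 = 1 := by rw [deg_tensor (k := k) hd hL hD, hdeg, hdD]; rfl
  have hdeg1 : ∀ {A : X.Modules}, PicF.IsInvertible A → Curv2.deg k X A 1 = 1 → h k 0 A = 1 := by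
    intro A hA hdA
    have hr := rr_deg (k := k) hd.le h0 A
    rw [hdA, hg] at hr
    have hz : h k 1 A = 0 := by
      by_contra hne
      have hnt : Nontrivial (Coh.HH X A 1) := not_subsingleton_iff_nontrivial.1 fun hs => hne
        (Groth.L21.RR.h_eq_zero_of_subsingleton k hs)
      have hle := Groth.L21.RR.h0_le_genus k hd.le (Groth.L16.ProperFinite.isCoh_of_isInvertible hA)
        (fun φ hφ => Groth.L21.RR.suppClosed_cokernel hd.le hA hφ) hnt
      omega
    omega
  haveI := nontrivial_of_h0_pos (k := k) (L := M) (hdeg1 hM hdM).ge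
  obtain ⟨φ, hφ⟩ := Groth.L21.RR.exists_hom_ne_zero (L := M)
  have hQs := Groth.L21.RR.suppClosed_cokernel hd.le hM hφ
  have hQc := (Groth.L16.CohKernel.isCoh_kernel_cokernel Groth.L16.CohClosedPush.isCoh_structure
    (Groth.L16.ProperFinite.isCoh_of_isInvertible hM) φ).2
  have hZ : {x : X | x ∉ CohB1.genLocus M φ}.Finite := Groth.L21.RR.finite_compl_genLocus hd.le hM hφ
  have hsum := Groth.L21.Disc.h0_eq_sum_length k hQc hZ.toFinset
    (fun x hx => by
      by_contra hc
      exact (hZ.mem_toFinset.1 hx) ((Groth.L21.RR.mem_genLocus_iff hM φ x).2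
        (Groth.L21.RR.surjective_st_of_not_closed hd.le hM hφ hc)))
    (fun x hx => by
      refine subsingleton_of_forall_eq 0 fun v => ?_
      obtain ⟨w, rfl⟩ := (Groth.L21.Mod.epi_iff_stalk_surjective (cokernel.π φ)).1 inferInstance x v
      have hx' : x ∈ CohB1.genLocus M φ := by
        by_contra hn
        exact hx (hZ.mem_toFinset.2 hn)
      obtain ⟨r, rfl⟩ := (Groth.L21.RR.mem_genLocus_iff hM φ x).1 hx' w
      show st (cokernel.π φ) x (st φ x r) = 0
      rw [← Groth.L21.RR.st_comp, cokernel.condition, st, Functor.map_zero]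
      rfl)
  have hone : h k 0 (cokernel φ) = 1 := by
    have := Groth.L21.RR.deg_eq_h0_cokernel k hd.le hM hφ
    omega
  rw [hone] at hsum
  obtain ⟨P, hPZ, hPne⟩ := Finset.exists_ne_zero_of_sum_ne_zero (hsum ▸ one_ne_zero)
  have hle := Finset.single_le_sum
    (f := fun x => (Module.length (X.presheaf.stalk x) ((cokernel φ).presheaf.stalk x)).toNat *
      Module.finrank k (X.residueField x)) (fun x _ => Nat.zero_le _) hPZ
  rw [← hsum] at hle
  have hP1 : Module.finrank k (X.residueField P) = 1 := by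
    have h1 := Nat.eq_one_of_mul_eq_one_left (le_antisymm hle (Nat.one_le_iff_ne_zero.2 hPne))
    exact h1
  have hPc : IsClosed ({P} : Set X) := by
    by_contra hc
    exact (hZ.mem_toFinset.1 hPZ) ((Groth.L21.RR.mem_genLocus_iff hM φ P).2
      (Groth.L21.RR.surjective_st_of_not_closed hd.le hM hφ hc))
  have hPr : Function.Bijective (Curv2.resMap k X P) := by
    haveI := Groth.L21.Disc.finite_residueField_of_isClosed k hPc
    haveI : Nontrivial (X.residueField P) := inferInstance
    have h2 : Function.Bijective (Algebra.linearMap k (X.residueField P)) := by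
      refine ⟨(Curv2.resMap k X P).injective, ?_⟩
      exact (LinearMap.injective_iff_surjective_of_finrank_eq_finrank (by rw [hP1, Module.finrank_self])).1
        (Curv2.resMap k X P).injective
    exact h2
  obtain ⟨ψ, hψ⟩ := (Groth.L21.RR.isMinusPt_twι hM hPc).exists_lift_section hM φ
    fun hs => (hZ.mem_toFinset.1 hPZ) ((Groth.L21.RR.mem_genLocus_iff hM φ P).2 hs)
  obtain ⟨hIP, hdIP⟩ := deg_ptI (k := k) hd hPc
  have hMP := Groth.L18.GenLoc.isInvertible_tensor hM hIP
  haveI : Nontrivial (Coh.HH X (CohB1.tensorMod M (ptI P hPc)) 0) := by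
    refine ⟨(Groth.L21.RR.e0 _).symm (ψ.app ⊤ (Groth.L21.RR.oneSec X)), 0, fun h1 => hφ ?_⟩
    rw [← hψ, show ψ = 0 from Groth.L21.RR.hom_ext_one
      (((Groth.L21.RR.e0 _).symm.injective (h1.trans (map_zero _).symm)).trans rfl), zero_comp]
  obtain ⟨i⟩ := nonempty_iso_of_deg_eq_zero (k := k) hd.le hMP
    (by rw [deg_tensor (k := k) hd hM hIP, hdM, hdIP, hP1]; norm_num) inferInstance
  let key : CohB1.tensorMod L (ptI P hPc) ≅ ptI O hOc :=
    (tensorUnitRight _).symm ≪≫ tensorIso (Iso.refl _) c.symm ≪≫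
      tensorIso (Iso.refl _) (tensorComm (ptI O hOc) D) ≪≫ (tensorAssoc _ D (ptI O hOc)).symm ≪≫
      tensorIso (tensorAssoc L (ptI P hPc) D ≪≫ tensorIso (Iso.refl L) (tensorComm (ptI P hPc) D) ≪≫
        (tensorAssoc L D (ptI P hPc)).symm ≪≫ i.symm) (Iso.refl _) ≪≫ tensorUnitLeft _
  refine ⟨⟨P, hPc, hPr⟩, ⟨key⟩, ?_⟩
  rintro ⟨Q, hQc', hQr⟩ ⟨eQ⟩
  refine Subtype.ext ?_
  by_contra hne
  change Q ≠ P at hne
  obtain ⟨L', hL', ⟨j⟩⟩ := Groth.L08.Cube.exists_inverse hL
  let cancelL : ∀ {A B : X.Modules}, (CohB1.tensorMod L A ≅ CohB1.tensorMod L B) → (A ≅ B) := fun {A B} u =>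
    (tensorUnitLeft A).symm ≪≫ tensorIso (j.symm ≪≫ tensorComm L L') (Iso.refl A) ≪≫ tensorAssoc L' L A ≪≫
      tensorIso (Iso.refl L') u ≪≫ (tensorAssoc L' L B).symm ≪≫
      tensorIso (tensorComm L' L ≪≫ j) (Iso.refl B) ≪≫ tensorUnitLeft B
  have hrat : Groth.L21.RR.IsRat k Q := fun a => by
    obtain ⟨t, ht⟩ := hQr.2 ((X.residue Q).hom a)
    refine ⟨t, (IsLocalRing.residue_eq_zero_iff _).1 ?_⟩
    show (X.residue Q).hom _ = 0
    rw [map_sub, sub_eq_zero]
    exact ht.symm
  obtain ⟨A, hA, hdA, hA0⟩ := Groth.L21.RR.exists_pencil_of_two_points k hd hQc' hPc hne hrat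
    (Groth.L21.P1.isPrincipal_of_smooth (k := k) hd.le Q) (cancelL (eQ ≪≫ key.symm))
  have := hdeg1 hA hdA
  omega

end Groth.L21.Duality
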