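import Groth.Agent.L21.Duality.Canonical

/-!
Consequences of duality on a smooth proper curve.
-/

set_option autoImplicit false
set_option backward.isDefEq.respectTransparency false
set_option linter.style.haveILetI false
universe u

open CategoryTheory CategoryTheory.Limits AlgebraicGeometry TopologicalSpace Opposite

noncomputable section

namespace Groth.L21.Duality

open Groth.L21.RR (h st)
open Groth.L16.CohLinear (hmap hmap_comp)

variable {X : Scheme.{u}} [IsIntegral X]

/-- A map between invertible modules vanishing on the image of a non-zero section vanishes. -/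
theorem eq_zero_of_comp_section {L M : X.Modules} (hL : PicF.IsInvertible L) (hM : PicF.IsInvertible M)
    {φ : Coh.structureModule X ⟶ L} (hφ : φ ≠ 0) (θ : L ⟶ M) (h : φ ≫ θ = 0) : θ = 0 := by
  have hη : ∀ v, st θ (genericPoint X) v = 0 := fun v => by
    obtain ⟨e, he⟩ := Groth.L21.RR.exists_frame_stalk hL (genericPoint X)
    obtain ⟨b, hb⟩ := he.2 (st φ (genericPoint X) (Groth.L21.RR.one X (genericPoint X)))
    obtain ⟨a, rfl⟩ := he.2 v
    have hb0 : b ≠ (0 : X.functionField) := fun h0 => Groth.L21.RR.st_one_ne_zero hL hφ (genericPoint X) (by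
      rw [← hb]
      show b • e = 0
      rw [show b = (0 : X.functionField) from h0]
      exact zero_smul _ _)
    have h1 : b • st θ (genericPoint X) e = 0 := by
      rw [← map_smul]
      refine (congrArg _ hb).trans ?_
      rw [← Groth.L21.RR.st_comp, h, Groth.L21.RR.st, Functor.map_zero]
      rfl
    obtain ⟨eM, heM⟩ := Groth.L21.RR.exists_frame_stalk hM (genericPoint X)
    obtain ⟨c, hc⟩ := heM.2 (st θ (genericPoint X) e)
    rw [← hc, smul_smul] at h1
    have h2 : (b * c : X.functionField) = 0 := heM.1 (h1.trans (zero_smul _ _).symm)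
    show st θ (genericPoint X) (a • e) = 0
    rw [map_smul, ← hc, show c = (0 : X.functionField) from (mul_eq_zero.1 h2).resolve_left hb0]
    exact (congrArg (a • ·) (zero_smul _ eM)).trans (smul_zero a)
  refine Groth.L21.Mod.hom_ext_stalk fun x => ?_
  ext v
  obtain ⟨W, hxW, s, rfl⟩ := TopCat.Presheaf.exists_germ_eq L.presheaf v
  have h3 : θ.app W s = 0 := by
    refine gη_injective hM (generic_mem hxW) ?_
    rw [gη, gη, ← Groth.L21.RR.st_germ, map_zero]
    exact hη _
  rw [Functor.map_zero]
  show st θ x (L.presheaf.germ W x hxW s) = 0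
  rw [Groth.L21.RR.st_germ, h3, map_zero]

/-- A non-zero map between invertible modules is injective on global sections. -/
theorem injective_hmap_of_ne_zero {L M : X.Modules} (hL : PicF.IsInvertible L) (hM : PicF.IsInvertible M)
    {θ : L ⟶ M} (hθ : θ ≠ 0) : Function.Injective (hmap θ 0) := by
  intro x y hxy
  by_contra hne
  obtain ⟨φ, hφ⟩ := Groth.L21.RR.exists_hom_of_hh0 (x - y)
  have hφ0 : φ ≠ 0 := fun h => hne (sub_eq_zero.1 ((Groth.L21.RR.e0 L).injective
    (hφ.symm.trans (by rw [h, map_zero]; rfl))))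
  refine hθ (eq_zero_of_comp_section hL hM hφ0 θ (Groth.L21.RR.hom_ext_one ?_))
  show θ.app ⊤ (φ.app ⊤ (Groth.L21.RR.oneSec X)) = 0
  rw [hφ, ← Groth.L21.RR.e0_hmap, map_sub, hxy, sub_self, map_zero]

variable {k : Type u} [Field k] [X.Over (Spec (CommRingCat.of k))] [IsProper (X ↘ Spec (CommRingCat.of k))]

/-- In positive genus `h⁰(L) ≤ deg L` for positive degree. -/
theorem h0_le_deg (hd : topologicalKrullDim X ≤ 1) (h0 : h k 0 (Coh.structureModule X) = 1)
    (hg : 1 ≤ h k 1 (Coh.structureModule X)) {L : X.Modules} (hL : PicF.IsInvertible L)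
    (hdeg : 0 < Curv2.deg k X L 1) : (h k 0 L : ℤ) ≤ Curv2.deg k X L 1 := by
  by_contra hlt
  push Not at hlt
  have hnt : Nontrivial (Coh.HH X L 0) :=
    not_subsingleton_iff_nontrivial.1 fun hs => by
      have := Groth.L21.RR.h_eq_zero_of_subsingleton k hs
      omega
  obtain ⟨φ, hφ⟩ := Groth.L21.RR.exists_hom_ne_zero (L := L)
  have h1 := (Groth.L21.RR.h0_le_add k hd hL hφ).1
  have h2 := Groth.L21.RR.deg_eq_h0_cokernel k hd hL hφ
  have h3 := Groth.L21.RR.genus_eq_zero_of_h0_eq k hd h0 hL hnt (by omega) hdeg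
  omega

end Groth.L21.Duality
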