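import Groth.Agent.L21.Duality.Pairing
import Groth.Agent.L21.CurveMaps
import Groth.Agent.L21.CurveFlat
import Groth.Agent.L21.Smooth.EtaleRegular
import Mathlib.RingTheory.RingHom.StandardSmooth
import Groth.Agent.L18.CurveDimension
import Groth.Agent.L22.AffineDim
import Groth.Agent.S2344
import Mathlib.RingTheory.Unramified.Field
import Mathlib.RingTheory.Jacobson.Ring

/-!
A smooth proper curve is a separable cover of the projective line.
-/

set_option autoImplicit false
set_option backward.isDefEq.respectTransparency false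
set_option linter.style.haveILetI false
set_option maxHeartbeats 1000000
universe u

open CategoryTheory AlgebraicGeometry TopologicalSpace Opposite KaehlerDifferential
open scoped nonZeroDivisors

noncomputable section

namespace Groth.L21.Duality

open Groth.L18.PUP (P pr)
open Groth.L21.P1 (U φ φ_bijective φ_C)
open Groth.L21.Disc (overMap overMap_germ)

/-- A standard smooth domain of dimension one has, after clearing denominators, its differentials spanned by one
exact differential. -/
theorem exists_span_differential (k A : Type u) [Field k] [CommRing A] [IsDomain A] [Algebra k A]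
    [Algebra.IsStandardSmooth k A] [Ring.DimensionLEOne A] (hA : ¬ IsField A) :
    ∃ t : A, ∀ a : A, ∃ c d : A, d ≠ 0 ∧ d • D k A a = c • D k A t := by
  obtain ⟨n, hn⟩ : ∃ n, Algebra.IsStandardSmoothOfRelativeDimension n k A := by
    obtain ⟨_, _, _, _, ⟨S⟩⟩ := Algebra.IsStandardSmooth.out (R := k) (S := A)
    exact ⟨S.dimension, ⟨_, _, _, inferInstance, S, rfl⟩⟩
  haveI := hn
  obtain ⟨q, hq⟩ := Ideal.exists_maximal A
  haveI := hq
  have hn1 : n = 1 := by
    obtain ⟨g, hg⟩ := Algebra.IsStandardSmoothOfRelativeDimension.exists_etale_mvPolynomial n k A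
    letI := g.toRingHom.toAlgebra
    haveI : Algebra.Etale (MvPolynomial (Fin n) k) A := hg
    haveI : (q.under (MvPolynomial (Fin n) k)).IsMaximal := by
      letI : Field (A ⧸ q) := Ideal.Quotient.field q
      haveI : Algebra.FiniteType (MvPolynomial (Fin n) k) (A ⧸ q) :=
        Algebra.FiniteType.of_surjective (Ideal.Quotient.mkₐ (MvPolynomial (Fin n) k) q) Ideal.Quotient.mk_surjective
      haveI : Module.Finite (MvPolynomial (Fin n) k) (A ⧸ q) := finite_of_finite_type_of_isJacobsonRing _ _
      have hm := Ideal.isMaximal_comap_of_isIntegral_of_isMaximal (R := MvPolynomial (Fin n) k) (⊥ : Ideal (A ⧸ q))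
      rw [IsScalarTower.algebraMap_eq (MvPolynomial (Fin n) k) A (A ⧸ q), ← Ideal.comap_comap,
        ← RingHom.ker_eq_comap_bot, Ideal.Quotient.algebraMap_eq, Ideal.mk_ker] at hm
      exact hm
    have h1 := (Groth.L21.Smooth.regular_localization_of_etale (MvPolynomial (Fin n) k) A q).2
    rw [IsLocalization.AtPrime.ringKrullDim_eq_height q, IsLocalization.AtPrime.ringKrullDim_eq_height
      (q.under (MvPolynomial (Fin n) k)), Groth.L22.AffineDim.height_of_isMaximal k A q,
      Groth.L22.AffineDim.height_of_isMaximal k (MvPolynomial (Fin n) k),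
      MvPolynomial.ringKrullDim_of_isNoetherianRing, ringKrullDim_eq_zero_of_field, zero_add] at h1
    have h2 : ringKrullDim A ≤ 1 := (Ring.krullDimLE_iff (R := A) (n := 1)).1 inferInstance
    have h3 : ringKrullDim A ≠ 0 := fun h => by
      haveI : Ring.KrullDimLE 0 A := (Ring.krullDimLE_iff (R := A) (n := 0)).2 h.le
      exact hA Ring.KrullDimLE.isField_of_isDomain
    rw [h1] at h2 h3
    simp only [Nat.card_eq_fintype_card, Fintype.card_fin] at h2 h3
    have h2' : n ≤ 1 := by exact_mod_cast h2
    have h3' : n ≠ 0 := fun h => h3 (by rw [h]; simp)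
    omega
  subst hn1
  have hrank : Module.rank A Ω[A⁄k] = 1 := by
    simpa using Algebra.IsStandardSmoothOfRelativeDimension.rank_kaehlerDifferential (R := k) (S := A) 1
  haveI : Algebra.IsStandardSmooth k A := Algebra.IsStandardSmoothOfRelativeDimension.isStandardSmooth 1
  let b := Module.Free.chooseBasis A Ω[A⁄k]
  obtain ⟨hsub, ⟨i⟩⟩ := Cardinal.eq_one_iff_unique.mp (b.mk_eq_rank''.trans hrank)
  have hc : ∀ a, D k A a = b.repr (D k A a) i • b i := fun a => by
    conv_lhs => rw [← b.linearCombination_repr (D k A a)]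
    rw [show b.repr (D k A a) = Finsupp.single i (b.repr (D k A a) i) from
      Finsupp.ext fun j => by rw [Subsingleton.elim j i, Finsupp.single_eq_same],
      Finsupp.linearCombination_single, Finsupp.single_eq_same]
  obtain ⟨t, ht⟩ : ∃ t : A, b.repr (D k A t) i ≠ 0 := by
    by_contra! hall
    have hbot : (⊤ : Submodule A Ω[A⁄k]) ≤ ⊥ := by
      rw [← span_range_derivation, Submodule.span_le]
      rintro _ ⟨a, rfl⟩
      rw [SetLike.mem_coe, Submodule.mem_bot, hc, hall, zero_smul]
    exact b.ne_zero i ((Submodule.mem_bot A).1 (hbot trivial))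
  refine ⟨t, fun a => ⟨b.repr (D k A a) i, b.repr (D k A t) i, ht, ?_⟩⟩
  conv_lhs => rw [hc a]
  conv_rhs => rw [hc t]
  rw [smul_smul, smul_smul, mul_comm]

/-- An extension of the field containing a spanning differential is formally unramified. -/
theorem formallyUnramified_of_span {k A F K : Type u} [Field k] [CommRing A] [IsDomain A] [Algebra k A] [Field K]
    [Algebra A K] [IsFractionRing A K] [Algebra k K] [IsScalarTower k A K] [Field F] [Algebra k F] [Algebra F K]
    [IsScalarTower k F K] {t : A} (ht : ∀ a : A, ∃ c d : A, d ≠ 0 ∧ d • D k A a = c • D k A t)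
    (htF : algebraMap A K t ∈ (algebraMap F K).range) : Algebra.FormallyUnramified F K := by
  refine ⟨?_⟩
  let dd : Derivation k A Ω[K⁄F] := ((KaehlerDifferential.D F K).restrictScalars k).compAlgebraMap A
  have hdd : ∀ a, dd a = KaehlerDifferential.D F K (algebraMap A K a) := fun a => rfl
  have hA : ∀ a, KaehlerDifferential.D F K (algebraMap A K a) = 0 := fun a => by
    obtain ⟨c, d, hd, h⟩ := ht a
    have h1 := congrArg dd.liftKaehlerDifferential h
    rw [map_smul, map_smul, Derivation.liftKaehlerDifferential_comp_D, Derivation.liftKaehlerDifferential_comp_D,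
      hdd t] at h1
    obtain ⟨s, hs⟩ := htF
    rw [← hs, Derivation.map_algebraMap, smul_zero, hdd, ← IsScalarTower.algebraMap_smul K d] at h1
    exact (smul_eq_zero.1 h1).resolve_left ((map_ne_zero_iff _ (IsFractionRing.injective A K)).2 hd)
  have hall : ∀ x, KaehlerDifferential.D F K x = 0 := fun x => by
    obtain ⟨a, s, hs, rfl⟩ := IsFractionRing.div_surjective (A := A) x
    have hs0 : algebraMap A K s ≠ 0 :=
      (map_ne_zero_iff _ (IsFractionRing.injective A K)).2 (nonZeroDivisors.ne_zero hs)
    have h1 := (KaehlerDifferential.D F K).leibniz (algebraMap A K a / algebraMap A K s) (algebraMap A K s)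
    rw [div_mul_cancel₀ _ hs0, hA, hA, smul_zero, zero_add] at h1
    exact (smul_eq_zero.1 h1.symm).resolve_left hs0
  have hbot : (⊤ : Submodule K Ω[K⁄F]) ≤ ⊥ := by
    rw [← span_range_derivation, Submodule.span_le]
    rintro _ ⟨x, rfl⟩
    exact (Submodule.mem_bot K).2 (hall x)
  exact ⟨fun x y => ((Submodule.mem_bot K).1 (hbot (x := x) trivial)).trans
    ((Submodule.mem_bot K).1 (hbot (x := y) trivial)).symm⟩

/-- The element with spanning differential is transcendental. -/
theorem aeval_injective_of_span {k A : Type u} [Field k] [CommRing A] [IsDomain A] [Algebra k A]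
    [Algebra.FiniteType k A] (hA : ¬ IsField A) {t : A}
    (ht : ∀ a : A, ∃ c d : A, d ≠ 0 ∧ d • D k A a = c • D k A t) :
    Function.Injective (Polynomial.aeval t : Polynomial k →ₐ[k] A) := by
  refine (injective_iff_map_eq_zero _).2 fun q hq => ?_
  by_contra hq0
  let K := FractionRing A
  let tK := algebraMap A K t
  have halg : IsAlgebraic k tK := ⟨q, hq0, by rw [Polynomial.aeval_algebraMap_apply, hq, map_zero]⟩
  let F := IntermediateField.adjoin k ({tK} : Set K)
  haveI : FiniteDimensional k F := IntermediateField.adjoin.finiteDimensional halg.isIntegral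
  haveI : Algebra.FormallyUnramified F K :=
    formallyUnramified_of_span (k := k) ht ⟨⟨tK, IntermediateField.mem_adjoin_simple_self k tK⟩, rfl⟩
  haveI : Algebra.EssFiniteType k K :=
    haveI : Algebra.EssFiniteType A K := Algebra.EssFiniteType.of_isLocalization K A⁰
    Algebra.EssFiniteType.comp k A K
  haveI : Algebra.EssFiniteType F K := Algebra.EssFiniteType.of_comp k F K
  haveI : Algebra.IsSeparable F K := Algebra.FormallyUnramified.isSeparable F K
  haveI : Algebra.IsAlgebraic k K := Algebra.IsAlgebraic.trans k F K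
  haveI : Algebra.IsIntegral k A := ⟨fun a =>
    ((Algebra.IsAlgebraic.isAlgebraic (R := k) (algebraMap A K a)).isIntegral).tower_bot (IsFractionRing.injective A K)⟩
  exact hA (isField_of_isIntegral_of_isField' (R := k) (Field.toIsField k))

variable {k : Type u} [Field k] {X : Scheme.{u}} [IsIntegral X] [X.Over (Spec (CommRingCat.of k))]
  [IsProper (X ↘ Spec (CommRingCat.of k))] [Smooth (X ↘ Spec (CommRingCat.of k))]

/-- A smooth proper curve is a separable cover of the projective line. -/
theorem exists_separable_cover (hd : topologicalKrullDim X = 1) :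
    ∃ f : X ⟶ P 1 k, IsFinite f ∧ Flat f ∧ f ≫ pr 1 k = X ↘ Spec (CommRingCat.of k) ∧
      ∃ hdom : f (genericPoint X) = genericPoint (P 1 k),
        letI := (overMap f (genericPoint X) (genericPoint (P 1 k)) hdom).toAlgebra
        Algebra.IsSeparable (P 1 k).functionField X.functionField := by
  classical
  haveI := Groth.L21.RR.isNoetherian_of_proper (X := X) k
  haveI := Groth.L21.RR.isNoetherian_of_proper (X := P 1 k) k
  set p := X ↘ Spec (CommRingCat.of k)
  have hnorm : ∀ x : X, IsDomain (X.presheaf.stalk x) ∧ IsIntegrallyClosed (X.presheaf.stalk x) := fun x =>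
    ⟨Groth.L21.Smooth.isDomain_stalk p x, Groth.L21.Smooth.isIntegrallyClosed_stalk p x⟩
  -- closed points are not generic
  have hηncl : ∀ z : X, IsClosed ({z} : Set X) → genericPoint X ≠ z := fun z hz hzη => by
    haveI : Subsingleton X := ⟨fun a b => by
      have h : ∀ y : X, y = z := fun y =>
        Set.mem_singleton_iff.1 (((genericPoint_spec X).specializes trivial).mem_closed hz hzη)
      rw [h a, h b]⟩
    haveI : Subsingleton (IrreducibleCloseds X) := ⟨fun a b => IrreducibleCloseds.ext ((Subsingleton.eq_univ_of_nonempty a.isIrreducible.nonempty).trans (Subsingleton.eq_univ_of_nonempty b.isIrreducible.nonempty).symm)⟩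
    have h0 : topologicalKrullDim X ≤ 0 := Order.krullDim_nonpos_of_subsingleton
    rw [hd] at h0
    exact absurd h0 (by norm_num)
  have hcurve : ∀ x : X, IsClosed ({x} : Set X) → ringKrullDim (X.presheaf.stalk x) = 1 := fun x hx =>
    le_antisymm ((Groth.L22.PicGlue.ringKrullDim_stalk_le x).trans hd.le)
      ((Groth.L18.CurveDim.one_le_dim_stalk_iff x).2
        ⟨genericPoint X, (genericPoint_spec X).specializes trivial, hηncl x hx⟩)
  -- a standard smooth affine chart and a spanning differential
  obtain ⟨V, hV, W, hW, hηW, e, hsm⟩ := Smooth.exists_isStandardSmooth p (genericPoint X)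
  obtain rfl : V = ⊤ := by
    ext y
    simp only [Opens.coe_top, Set.mem_univ, iff_true]
    obtain rfl : y = p (genericPoint X) := Subsingleton.elim (α := PrimeSpectrum k) _ _
    exact e hηW
  let α := (p.appLE ⊤ W e).hom.comp (Scheme.ΓSpecIso (CommRingCat.of k)).inv.hom
  have hα : α.IsStandardSmooth := RingHom.isStandardSmooth_respectsIso.2 _
    (Scheme.ΓSpecIso (CommRingCat.of k)).symm.commRingCatIsoToRingEquiv hsm
  letI : Algebra k Γ(X, W) := α.toAlgebra
  haveI : Algebra.IsStandardSmooth k Γ(X, W) := hα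
  haveI : Nonempty W := ⟨⟨_, hηW⟩⟩
  haveI := functionField_isFractionRing_of_isAffineOpen X W hW
  haveI := Groth.L21.isDedekindDomain_of_normal hd.le hnorm hW
  have hA : ¬ IsField Γ(X, W) := fun hfld => by
    letI := hfld.toField
    haveI : Subsingleton (PrimeSpectrum Γ(X, W)) := inferInstance
    haveI : Subsingleton (Spec Γ(X, W)) := ‹Subsingleton (PrimeSpectrum Γ(X, W))›
    haveI : Subsingleton W := hW.isoSpec.hom.homeomorph.injective.subsingleton
    obtain ⟨z, hz, hzc⟩ : ∃ z ∈ (W : Set X), IsClosed ({z} : Set X) := by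
      haveI : JacobsonSpace X := LocallyOfFiniteType.jacobsonSpace p
      exact nonempty_inter_closedPoints ⟨_, hηW⟩ W.2.isLocallyClosed
    exact hηncl z hzc (congrArg Subtype.val (Subsingleton.elim (α := (W : Scheme.{u})) ⟨genericPoint X, hηW⟩ ⟨z, hz⟩))
  obtain ⟨t, ht⟩ := exists_span_differential k Γ(X, W) hA
  have hinj := aeval_injective_of_span hA ht
  -- the morphism on the chart
  let eφ := RingEquiv.ofBijective (φ k 0) (φ_bijective k 0)
  let ψ : Γ(P 1 k, U k 0) →+* Γ(X, W) := (Polynomial.aeval t : Polynomial k →ₐ[k] Γ(X, W)).toRingHom.comp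
    eφ.symm.toRingHom
  have hψinj : Function.Injective ψ := hinj.comp eφ.symm.injective
  have hψφ : ∀ a, ψ (φ k 0 a) = Polynomial.aeval t a := fun a => congrArg (Polynomial.aeval t) (eφ.symm_apply_apply a)
  have hU : IsAffineOpen (U k 0) := Proj.isAffineOpen_basicOpen _ _ (Groth.L18.PS.X_mem 1 0) one_pos
  let gS : Spec Γ(X, W) ⟶ P 1 k := Spec.map (CommRingCat.ofHom ψ) ≫ hU.fromSpec
  have hgS : gS ≫ pr 1 k = hW.fromSpec ≫ p := by
    have hψk : (pr 1 k).appLE ⊤ (U k 0) le_top ≫ CommRingCat.ofHom ψ = p.appLE ⊤ W e := by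
      ext c
      obtain ⟨c, rfl⟩ := (Scheme.ΓSpecIso (CommRingCat.of k)).symm.commRingCatIsoToRingEquiv.surjective c
      show ψ ((pr 1 k).appLE ⊤ (U k 0) le_top ((Scheme.ΓSpecIso (CommRingCat.of k)).inv c)) = α c
      rw [show (pr 1 k).appLE ⊤ (U k 0) le_top ((Scheme.ΓSpecIso (CommRingCat.of k)).inv c) =
        φ k 0 (Polynomial.C c) from ?_, hψφ, Polynomial.aeval_C]
      · rfl
      · rw [φ_C]
        rfl
    rw [Category.assoc, ← IsAffineOpen.SpecMap_appLE_fromSpec (pr 1 k) (isAffineOpen_top _) hU le_top,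
      ← Spec.map_comp_assoc, hψk, IsAffineOpen.SpecMap_appLE_fromSpec p (isAffineOpen_top _) hW e]
  let g : (W : Scheme.{u}) ⟶ P 1 k := hW.isoSpec.hom ≫ gS
  have hg : g ≫ ((P 1 k) ↘ Spec (CommRingCat.of k)) = W.ι ≫ p := by
    show g ≫ pr 1 k = _
    rw [Category.assoc, hgS, ← Category.assoc, IsAffineOpen.isoSpec_hom_fromSpec]
  obtain ⟨f, ⟨hfg, hfp⟩, -⟩ := Groth.Agent.S2344.result k X (P 1 k) hcurve hnorm W
    (W.2.dense ⟨_, hηW⟩) g hg
  have hf : f ≫ pr 1 k = p := hfp
  have hff : hW.fromSpec ≫ f = gS := by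
    rw [← cancel_epi hW.isoSpec.hom, IsAffineOpen.isoSpec_hom_fromSpec_assoc]
    exact hfg
  have hdom : f (genericPoint X) = genericPoint (P 1 k) := by
    haveI : Nonempty (U k 0) := ⟨⟨hU.fromSpec (Spec.map (CommRingCat.ofHom ψ) (genericPoint (Spec Γ(X, W)))),
      hU.opensRange_fromSpec.le ⟨_, rfl⟩⟩⟩
    have h1 : hW.fromSpec (genericPoint (Spec Γ(X, W))) = genericPoint X :=
      genericPoint_eq_of_isOpenImmersion hW.fromSpec
    have h2 : hU.fromSpec (genericPoint (Spec Γ(P 1 k, U k 0))) = genericPoint (P 1 k) :=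
      genericPoint_eq_of_isOpenImmersion hU.fromSpec
    rw [← h1, ← h2, ← Scheme.Hom.comp_apply, hff]
    show hU.fromSpec _ = hU.fromSpec _
    congr 1
    rw [genericPoint_eq_bot_of_affine, genericPoint_eq_bot_of_affine]
    exact PrimeSpectrum.ext ((Ideal.comap_bot_of_injective _ hψinj))
  have hWle : W ≤ f ⁻¹ᵁ U k 0 := by
    intro x hx
    have h1 : hW.fromSpec (hW.isoSpec.hom ⟨x, hx⟩) = x := by
      rw [← Scheme.Hom.comp_apply, IsAffineOpen.isoSpec_hom_fromSpec]
      rfl
    show f x ∈ U k 0
    rw [← h1, ← Scheme.Hom.comp_apply, hff]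
    have h2 : (Spec.map (CommRingCat.ofHom ψ) ≫ hU.fromSpec) (hW.isoSpec.hom ⟨x, hx⟩) ∈
        hU.fromSpec.opensRange := ⟨Spec.map (CommRingCat.ofHom ψ) (hW.isoSpec.hom ⟨x, hx⟩), rfl⟩
    rwa [hU.opensRange_fromSpec] at h2
  have happ : (f.appLE (U k 0) W hWle).hom = ψ := by
    have h1 : Spec.map (f.appLE (U k 0) W hWle) ≫ hU.fromSpec = Spec.map (CommRingCat.ofHom ψ) ≫ hU.fromSpec :=
      (IsAffineOpen.SpecMap_appLE_fromSpec f hU hW hWle).trans hff
    exact congrArg CommRingCat.Hom.hom (Spec.map_injective ((cancel_mono hU.fromSpec).1 h1))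
  have hsurj : Function.Surjective f := fun y => by
    haveI : IsProper f := by
      haveI : IsProper (f ≫ pr 1 k) := hf.symm ▸ inferInstance
      exact IsProper.of_comp f (pr 1 k)
    have h1 : y ∈ closure ({f (genericPoint X)} : Set (P 1 k)) := by
      rw [hdom, genericPoint_spec]; trivial
    exact (f.isClosedMap.isClosed_range.closure_subset_iff.2 (Set.singleton_subset_iff.2 ⟨_, rfl⟩)) h1
  have hnc : (Set.range f.base).Nontrivial := by
    by_contra hnt
    haveI : Subsingleton (P 1 k) := ⟨fun a b => (Set.not_nontrivial_iff.1 hnt) (hsurj a) (hsurj b)⟩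
    haveI : Subsingleton (IrreducibleCloseds (P 1 k)) := ⟨fun a b => IrreducibleCloseds.ext ((Subsingleton.eq_univ_of_nonempty a.isIrreducible.nonempty).trans (Subsingleton.eq_univ_of_nonempty b.isIrreducible.nonempty).symm)⟩
    have h0 : topologicalKrullDim (P 1 k) ≤ 0 := Order.krullDim_nonpos_of_subsingleton
    rw [Groth.L21.P1.topologicalKrullDim_eq] at h0
    exact absurd h0 (by norm_num)
  haveI hfin : IsFinite f := by
    refine Groth.L21.CurveTop.isFinite_of_nonconstant p (pr 1 k) f hf hd.le fun Z hZ _ => ?_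
    have hZu : Z = Set.univ := by
      rw [irreducibleComponents_eq_singleton, Set.mem_singleton_iff] at hZ
      exact hZ
    rw [hZu, Set.image_univ]
    exact hnc
  have hflat : Flat f := Groth.L21.flat_of_nonconstant Groth.L21.P1.topologicalKrullDim_eq.le
    Groth.L21.P1.normal_P1 f hnc
  refine ⟨f, hfin, hflat, hf, hdom, ?_⟩
  letI algFK := (overMap f (genericPoint X) (genericPoint (P 1 k)) hdom).toAlgebra
  haveI := finiteDimensional_functionField f hdom
  obtain ⟨hiP, hi⟩ := generic_mem_chart f hdom 0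
  letI : Algebra k X.functionField := ((γη hηW).comp α).toAlgebra
  haveI : IsScalarTower k Γ(X, W) X.functionField := IsScalarTower.of_algebraMap_eq' rfl
  letI : Algebra k (P 1 k).functionField := ((γη hiP).comp ((φ k 0).comp Polynomial.C)).toAlgebra
  have hcomp : ∀ a, algebraMap (P 1 k).functionField X.functionField (γη hiP a) = γη hηW (ψ a) := fun a => by
    rw [← happ]
    refine (overMap_germ f (genericPoint X) (genericPoint (P 1 k)) hdom (U k 0) hiP a).trans ?_
    exact (X.presheaf.germ_res_apply (homOfLE hWle) _ hηW _).symm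
  haveI : IsScalarTower k (P 1 k).functionField X.functionField := IsScalarTower.of_algebraMap_eq fun c => by
    refine Eq.trans ?_ (hcomp (φ k 0 (Polynomial.C c))).symm
    rw [hψφ, Polynomial.aeval_C]
    rfl
  haveI : Algebra.FormallyUnramified (P 1 k).functionField X.functionField :=
    formallyUnramified_of_span (k := k) ht ⟨γη hiP (φ k 0 Polynomial.X), by rw [hcomp, hψφ, Polynomial.aeval_X]; rfl⟩
  exact Algebra.FormallyUnramified.isSeparable _ _

end Groth.L21.Duality
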