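import Groth.Agent.L21.Duality.CliffordEquality

/-!
Consequences of Clifford's theorem and of the very ampleness criterion.
-/

set_option autoImplicit false
set_option backward.isDefEq.respectTransparency false
set_option linter.style.haveILetI false
universe u

open CategoryTheory CategoryTheory.Limits AlgebraicGeometry TopologicalSpace Opposite

noncomputable section

namespace Groth.L21.Duality

open Groth.L21.RR (h st ptI twist_point twist_two_points)
open Groth.L00.Tensor (tensorAssoc tensorComm tensorIso tensorUnitLeft tensorUnitRight)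

variable {k : Type u} [Field k] [IsAlgClosed k] {X : Scheme.{u}} [IsIntegral X] [X.Over (Spec (CommRingCat.of k))]
  [IsProper (X ↘ Spec (CommRingCat.of k))] [Smooth (X ↘ Spec (CommRingCat.of k))]

/-- A pencil of degree two is the class of two points. -/
theorem exists_two_points_of_deg_two (hd : topologicalKrullDim X = 1) (h0 : h k 0 (Coh.structureModule X) = 1)
    {M : X.Modules} (hM : PicF.IsInvertible M) (hdeg : Curv2.deg k X M 1 = 2) (hM0 : 2 ≤ h k 0 M) :
    ∃ (P Q : X) (hP : IsClosed ({P} : Set X)) (hQ : IsClosed ({Q} : Set X)),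
      Nonempty (CohB1.tensorMod M (CohB1.tensorMod (ptI P hP) (ptI Q hQ)) ≅ Coh.structureModule X) := by
  haveI := Groth.L21.RR.isNoetherian_of_proper (X := X) k
  obtain ⟨P, hP, -⟩ := Groth.L21.RR.exists_closed_specialization (genericPoint X)
  obtain ⟨hA, -, hdA, -, hleA, -⟩ := twist_point k hd hM hP
  haveI := nontrivial_of_h0_pos (k := k) (L := CohB1.tensorMod M (ptI P hP)) (by omega)
  obtain ⟨φ, hφ⟩ := Groth.L21.RR.exists_hom_ne_zero (L := CohB1.tensorMod M (ptI P hP))
  obtain ⟨Q, hQ, hns⟩ := exists_not_surjective (k := k) hd.le hA (by omega) φ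
  obtain ⟨hB, -, hdB, -, -, -⟩ := twist_point k hd hA hQ
  obtain ⟨ψ, hψ⟩ := (Groth.L21.RR.isMinusPt_twι hA hQ).exists_lift_section hA φ hns
  haveI : Nontrivial (Coh.HH X (CohB1.tensorMod (CohB1.tensorMod M (ptI P hP)) (ptI Q hQ)) 0) := by
    refine ⟨(Groth.L21.RR.e0 _).symm (ψ.app ⊤ (Groth.L21.RR.oneSec X)), 0, fun h1 => hφ ?_⟩
    rw [← hψ, show ψ = 0 from Groth.L21.RR.hom_ext_one
      (((Groth.L21.RR.e0 _).symm.injective (h1.trans (map_zero _).symm)).trans rfl), zero_comp]
  obtain ⟨i⟩ := nonempty_iso_of_deg_eq_zero (k := k) hd.le hB (by omega) inferInstance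
  exact ⟨P, Q, hP, hQ, ⟨(tensorAssoc M (ptI P hP) (ptI Q hQ)).symm ≪≫ i.symm⟩⟩

/-- Linear semistability of curves of high degree, and the strict version. -/
theorem linearly_semistable (hd : topologicalKrullDim X = 1) (h0 : h k 0 (Coh.structureModule X) = 1) (d : ℤ)
    (hdg : 2 * (Curv2.genus k X : ℤ) ≤ d) {M : X.Modules} (hM : PicF.IsInvertible M) (m : ℕ) (hm : 1 ≤ m)
    (hsec : m + 1 ≤ h k 0 M) (hdeg : Curv2.deg k X M 1 ≤ d) :
    d * (m : ℤ) ≤ Curv2.deg k X M 1 * (d - Curv2.genus k X) ∧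
      (2 * (Curv2.genus k X : ℤ) < d → 1 ≤ Curv2.genus k X →
        Curv2.deg k X M 1 < d ∨ (m : ℤ) < d - Curv2.genus k X →
        d * (m : ℤ) < Curv2.deg k X M 1 * (d - Curv2.genus k X)) := by
  have hrr := rr_deg (k := k) hd.le h0 M
  rcases Nat.eq_zero_or_pos (h k 1 M) with hz | hpos
  · rw [hz] at hrr
    have hme : (m : ℤ) ≤ Curv2.deg k X M 1 - Curv2.genus k X := by omega
    refine ⟨by nlinarith, fun hdg' hg hlt => ?_⟩
    rcases hlt with hlt | hlt
    · nlinarith
    · rcases hdeg.lt_or_eq with he | he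
      · nlinarith
      · rw [he] at hme ⊢
        nlinarith
  · have hcl := clifford (k := k) hd h0 hM (by omega) hpos
    have hme : 2 * (m : ℤ) ≤ Curv2.deg k X M 1 := by omega
    exact ⟨by nlinarith, fun hdg' _ _ => by nlinarith⟩

/-- Effective classes with one section in every degree up to the genus. -/
theorem exists_h0_eq_one (hd : topologicalKrullDim X = 1) (h0 : h k 0 (Coh.structureModule X) = 1) :
    ∀ r : ℕ, r ≤ Curv2.genus k X →
      ∃ L : X.Modules, PicF.IsInvertible L ∧ Curv2.deg k X L 1 = r ∧ h k 0 L = 1 := by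
  haveI := Groth.L21.RR.isNoetherian_of_proper (X := X) k
  intro r
  induction r with
  | zero => exact fun _ => ⟨_, Groth.L18.Ample.isInvertible_structureModule X, by
      rw [deg_structureModule]; rfl, h0⟩
  | succ r ih =>
    intro hr
    obtain ⟨L, hL, hdL, hL0⟩ := ih (Nat.le_of_succ_le hr)
    have hrr := rr_deg (k := k) hd.le h0 L
    obtain ⟨N, hN, ⟨e⟩, hN0, -⟩ := exists_dual (k := k) hd hL
    haveI := nontrivial_of_h0_pos (k := k) (L := N) (by omega)
    obtain ⟨t, ht⟩ := Groth.L21.RR.exists_hom_ne_zero (L := N)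
    haveI : JacobsonSpace X := LocallyOfFiniteType.jacobsonSpace (X ↘ Spec (CommRingCat.of k))
    obtain ⟨P, hPt, hP⟩ : ∃ P : X, P ∈ CohB1.genLocus N t ∧ IsClosed ({P} : Set X) := by
      have hne : ((CohB1.genLocus N t : X.Opens) : Set X).Nonempty :=
        ⟨genericPoint X, (Groth.L21.RR.mem_genLocus_iff hN t _).2 (Groth.L21.RR.surjective_st_of_not_closed hd.le hN ht
          fun hc => ne_of_apply_ne id (Groth.L21.RR.ne_genericPoint_of_isClosed hd hc) rfl)⟩
      obtain ⟨P, h1, h2⟩ := nonempty_inter_closedPoints hne (CohB1.genLocus N t).2.isLocallyClosed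
      exact ⟨P, h1, h2⟩
    obtain ⟨hN', -, -, -, -, hiff⟩ := twist_point k hd hN hP
    have hdrop := hiff.2 ⟨t, (Groth.L21.RR.mem_genLocus_iff hN t P).1 hPt⟩
    obtain ⟨hI0, -, hdI0, -⟩ := twist_point k hd (Groth.L18.Ample.isInvertible_structureModule X) hP
    have hI : PicF.IsInvertible (ptI P hP) := Groth.L18.Ample.isInvertible_of_iso (tensorUnitLeft _) hI0
    obtain ⟨D, hD, ⟨c⟩⟩ := Groth.L08.Cube.exists_inverse hI
    have hdD : Curv2.deg k X D 1 = 1 := by
      have h1 := deg_tensor (k := k) hd hI hD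
      rw [deg_congr (k := k) c, deg_structureModule] at h1
      rw [deg_congr (k := k) (tensorUnitLeft (ptI P hP)), deg_structureModule] at hdI0
      omega
    have hLD := Groth.L18.GenLoc.isInvertible_tensor hL hD
    refine ⟨_, hLD, by rw [deg_tensor (k := k) hd hL hD, hdL, hdD]; push_cast; ring, ?_⟩
    let u : CohB1.tensorMod (CohB1.tensorMod N (ptI P hP)) (CohB1.tensorMod L D) ≅
        Omega.sheaf (X ↘ Spec (CommRingCat.of k)) :=
      tensorAssoc N (ptI P hP) _ ≪≫ tensorIso (Iso.refl N) (tensorComm (ptI P hP) _ ≪≫ tensorAssoc L D _ ≪≫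
        tensorIso (Iso.refl L) (tensorComm D (ptI P hP) ≪≫ c) ≪≫ tensorUnitRight L) ≪≫ e
    have h1 := (duality (k := k) hd hN' hLD u).1
    have hrr' := rr_deg (k := k) hd.le h0 (CohB1.tensorMod L D)
    rw [deg_tensor (k := k) hd hL hD, hdD, ← h1] at hrr'
    omega

end Groth.L21.Duality
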