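import Groth.Agent.L21.RR.IdealTwist
import Groth.Agent.L21.Duality.Special

/-!
Secant divisors and `3`-very ampleness.
-/

set_option autoImplicit false
set_option backward.isDefEq.respectTransparency false
set_option linter.style.haveILetI false
universe u

open CategoryTheory CategoryTheory.Limits AlgebraicGeometry TopologicalSpace Opposite

noncomputable section

namespace Groth.L21.Duality

open Groth.L21.RR (h st e0 mulC exists_lift genericPoint_notMem_support euler_twist_ideal isInvertible_idealMod)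
open Groth.L00.Tensor (tensorAssoc tensorComm tensorIso tensorUnitLeft tensorUnitRight)

variable {k : Type u} [Field k] [IsAlgClosed k] {X : Scheme.{u}} [IsIntegral X] [X.Over (Spec (CommRingCat.of k))]
  [IsProper (X ↘ Spec (CommRingCat.of k))] [Smooth (X ↘ Spec (CommRingCat.of k))]

/-- High degree invertible modules are `3`-very ample. -/
theorem three_veryAmple (hd : topologicalKrullDim X = 1) {L : X.Modules} (hL : PicF.IsInvertible L)
    (hdeg : 2 * (Curv2.genus k X : ℤ) + 3 ≤ Curv2.deg k X L 1) (I : X.IdealSheafData)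
    (hI : h k 0 (ClSub.quotMod I) = 4) :
    h k 0 (CohB1.tensorMod L (ClSub.idealMod I)) + 4 = h k 0 L := by
  haveI := Groth.L21.RR.isNoetherian_of_proper (X := X) k
  have h0 := Groth.L21.RR.h0_eq_one_of_isAlgClosed (X := X) k
  have hsupp := genericPoint_notMem_support k I (by omega)
  have he := euler_twist_ideal k hd.le hL I hsupp
  have hg : h k 1 (Coh.structureModule X) = Curv2.genus k X := rfl
  rw [Curv2.deg, Groth.L21.RR.euler_eq k hd.le (Coh.structureModule X), h0, hg] at hdeg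
  push_cast at hdeg
  haveI : Mono (Groth.L21.RR.twι L I) := (Groth.L21.RR.shortExact_tw I hL).mono_f
  have s1 := Groth.L21.RR.h_eq_zero_of_subsingleton k (Groth.L21.RR.subsingleton_h1_of_euler_ge k hd.le hL
    (Groth.L21.RR.twι L I) (Groth.L21.RR.isCoh_twist I hL) (by rw [he, hI, hg]; push_cast; omega))
  have s2 := Groth.L21.RR.h_eq_zero_of_subsingleton k (Groth.L21.RR.subsingleton_h1_of_euler_ge k hd.le hL
    (𝟙 L) (Groth.L16.ProperFinite.isCoh_of_isInvertible hL) (by rw [hg]; omega))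
  rw [Groth.L21.RR.euler_eq k hd.le, Groth.L21.RR.euler_eq k hd.le, s1, s2, hI] at he
  push_cast at he
  omega

/-- The canonical module is `3`-very ample iff there is no pencil of degree four. -/
theorem omega_three_veryAmple_iff (hd : topologicalKrullDim X = 1) :
    (∀ (I : X.IdealSheafData), h k 0 (ClSub.quotMod I) = 4 →
      h k 0 (CohB1.tensorMod (Omega.sheaf (X ↘ Spec (CommRingCat.of k))) (ClSub.idealMod I)) + 4 =
        h k 0 (Omega.sheaf (X ↘ Spec (CommRingCat.of k)))) ↔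
    ∀ (I : X.IdealSheafData), h k 0 (ClSub.quotMod I) = 4 →
      ∀ (M : X.Modules), ClSub.IsInverseOf (ClSub.idealMod I) M → h k 0 M = 1 := by
  haveI := Groth.L21.RR.isNoetherian_of_proper (X := X) k
  have h0 := Groth.L21.RR.h0_eq_one_of_isAlgClosed (X := X) k
  have hΩ := isInvertible_omega (k := k) hd
  obtain ⟨hΩ0, hΩ1, -⟩ := omega_invariants (k := k) (X := X) hd
  have key : ∀ (I : X.IdealSheafData), h k 0 (ClSub.quotMod I) = 4 → ∀ (M : X.Modules),
      ClSub.IsInverseOf (ClSub.idealMod I) M →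
      ((h k 0 (CohB1.tensorMod (Omega.sheaf (X ↘ Spec (CommRingCat.of k))) (ClSub.idealMod I)) + 4 =
          h k 0 (Omega.sheaf (X ↘ Spec (CommRingCat.of k)))) ↔ h k 0 M = 1) := by
    intro I hI M hM
    obtain ⟨i⟩ := hM
    have hsupp := genericPoint_notMem_support k I (by omega)
    have hJ := isInvertible_idealMod k hd I hsupp
    have hMi := isInvertible_of_tensor_iso hJ (Groth.L18.Ample.isInvertible_structureModule X) i
    have he := euler_twist_ideal k hd.le hΩ I hsupp
    let e : CohB1.tensorMod M (CohB1.tensorMod (Omega.sheaf (X ↘ Spec (CommRingCat.of k))) (ClSub.idealMod I)) ≅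
        Omega.sheaf (X ↘ Spec (CommRingCat.of k)) :=
      tensorComm M _ ≪≫ tensorAssoc _ _ M ≪≫ tensorIso (Iso.refl _) i ≪≫ tensorUnitRight _
    have h1 := (duality (k := k) hd hMi (Groth.L18.GenLoc.isInvertible_tensor hΩ hJ) e).1
    rw [Groth.L21.RR.euler_eq k hd.le, Groth.L21.RR.euler_eq k hd.le, hΩ0, hΩ1, h0, hI, ← h1] at he
    rw [hΩ0]
    push_cast at he
    omega
  refine ⟨fun h1 I hI M hM => (key I hI M hM).1 (h1 I hI), fun h2 I hI => ?_⟩
  obtain ⟨M, -, ⟨i⟩⟩ := Groth.L08.Cube.exists_inverse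
    (isInvertible_idealMod k hd I (genericPoint_notMem_support k I (by omega)))
  exact (key I hI M ⟨i⟩).2 (h2 I hI M ⟨i⟩)

/-- The section of `N` attached to a subsheaf of `O` isomorphic to the inverse of `N`. -/
def secOfInverse {I N : X.Modules} (ι : I ⟶ Coh.structureModule X)
    (j : CohB1.tensorMod N I ≅ Coh.structureModule X) : Coh.structureModule X ⟶ N :=
  j.inv ≫ ((DCoh.tensorBi (X := X)).obj N).map ι ≫ (tensorUnitRight N).hom

omit [IsAlgClosed k] [IsProper (X ↘ Spec (CommRingCat.of k))] [Smooth (X ↘ Spec (CommRingCat.of k))] in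
theorem secOfInverse_ne_zero {I N : X.Modules} (hN : PicF.IsInvertible N)
    (ι : I ⟶ Coh.structureModule X) [Mono ι] (j : CohB1.tensorMod N I ≅ Coh.structureModule X) :
    secOfInverse ι j ≠ 0 := by
  intro h0
  haveI : Mono (((DCoh.tensorBi (X := X)).obj N).map ι) :=
    (Groth.L16.FrameIso.shortExact_tensor_left (Groth.L21.RR.isFlat_of_isInvertible hN)
      (ShortComplex.mk ι (cokernel.π ι) (cokernel.condition ι))
      { exact := ShortComplex.exact_cokernel ι }).mono_f
  haveI : Mono (secOfInverse ι j) := by unfold secOfInverse; infer_instance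
  have h1 : 𝟙 (Coh.structureModule X) = 0 := (cancel_mono (secOfInverse ι j)).1 (by rw [h0]; simp)
  have h2 := congr(($h1).app ⊤ (Groth.L21.RR.oneSec X))
  haveI : Nonempty ((⊤ : X.Opens) : Scheme) := ⟨⟨genericPoint X, trivial⟩⟩
  exact one_ne_zero (α := Γ(X, ⊤)) h2

/-- Ideals with proportional sections are equal. -/
theorem exists_fac_of_h0_le_one {I I' N : X.Modules} (hN : PicF.IsInvertible N) (h1 : h k 0 N ≤ 1)
    (ι : I ⟶ Coh.structureModule X) (ι' : I' ⟶ Coh.structureModule X) [Mono ι] [Mono ι']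
    (j : CohB1.tensorMod N I ≅ Coh.structureModule X) (j' : CohB1.tensorMod N I' ≅ Coh.structureModule X) :
    ∃ g : I' ⟶ I, g ≫ ι = ι' := by
  haveI := Groth.L21.RR.isNoetherian_of_proper (X := X) k
  haveI := Groth.L21.RR.finite_HH' k (Groth.L16.ProperFinite.isCoh_of_isInvertible hN) 0
  let σ := secOfInverse ι j
  let σ' := secOfInverse ι' j'
  let one0 : Coh.HH X (Coh.structureModule X) 0 := (e0 _).symm (Groth.L21.RR.oneSec X)
  have hx : Groth.L21.RR.hk k σ 0 one0 ≠ 0 := fun h0 => secOfInverse_ne_zero hN ι j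
    (Groth.L21.RR.hom_ext_one (by
      have h2 := congrArg (e0 N) h0
      rw [map_zero] at h2
      refine Eq.trans ?_ (h2.trans rfl)
      refine Eq.trans ?_ (Groth.L21.RR.e0_hmap σ one0).symm
      rw [AddEquiv.apply_symm_apply]))
  obtain ⟨x₀, hx₀⟩ := finrank_le_one_iff.1 h1
  obtain ⟨a, ha⟩ := hx₀ (Groth.L21.RR.hk k σ 0 one0)
  obtain ⟨b, hb⟩ := hx₀ (Groth.L21.RR.hk k σ' 0 one0)
  have ha0 : a ≠ 0 := fun h0 => hx (by rw [← ha, h0, zero_smul])
  have hσ : σ' = mulC k (b * a⁻¹) ≫ σ := by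
    refine Groth.L21.RR.hom_ext_one ?_
    have h3 : Groth.L21.RR.hk k σ 0 ((b * a⁻¹) • one0) = Groth.L21.RR.hk k σ' 0 one0 := by
      rw [map_smul, ← ha, smul_smul, mul_assoc, inv_mul_cancel₀ ha0, mul_one, hb]
    rw [← Groth.L21.RR.hk_mulC] at h3
    have h4 := congrArg (e0 N) h3
    change e0 N (Groth.L16.CohLinear.hmap σ 0 (Groth.L16.CohLinear.hmap (mulC k (b * a⁻¹)) 0 one0)) =
      e0 N (Groth.L16.CohLinear.hmap σ' 0 one0) at h4
    rw [Groth.L21.RR.e0_hmap, Groth.L21.RR.e0_hmap, Groth.L21.RR.e0_hmap, AddEquiv.apply_symm_apply] at h4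
    exact h4.symm
  refine exists_lift ι ι' fun y v => ?_
  obtain ⟨e, he⟩ := Groth.L21.RR.exists_frame_stalk hN y
  obtain ⟨w, hw⟩ := (Groth.L21.RR.tensorStalkEquiv (L := N) I' he).surjective v
  obtain ⟨r, hr⟩ := (Groth.L21.Mod.epi_iff_stalk_surjective j'.inv).1 inferInstance y w
  refine ⟨Groth.L21.RR.tensorStalkEquiv (L := N) I he (st j.inv y (st (mulC k (b * a⁻¹)) y r)), ?_⟩
  have hu := (Groth.L21.Mod.mono_iff_stalk_injective (tensorUnitRight N).hom).1 inferInstance y
  rw [← hw, ← Groth.L21.RR.tensorStalkEquiv_natural ι he, ← Groth.L21.RR.tensorStalkEquiv_natural ι' he]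
  refine congrArg _ (hu ?_)
  show st (tensorUnitRight N).hom y (st (((DCoh.tensorBi (X := X)).obj N).map ι) y _) =
    st (tensorUnitRight N).hom y (st (((DCoh.tensorBi (X := X)).obj N).map ι') y w)
  rw [← show st j'.inv y r = w from hr]
  have h5 : st σ y (st (mulC k (b * a⁻¹)) y r) = st σ' y r := by
    rw [← Groth.L21.RR.st_comp, hσ]
  refine Eq.trans ?_ (h5.trans ?_)
  · exact ((Groth.L21.RR.st_comp j.inv (((DCoh.tensorBi (X := X)).obj N).map ι ≫ (tensorUnitRight N).hom) y _).trans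
      (Groth.L21.RR.st_comp _ _ y _)).symm
  · exact (Groth.L21.RR.st_comp j'.inv (((DCoh.tensorBi (X := X)).obj N).map ι' ≫ (tensorUnitRight N).hom) y _).trans
      (Groth.L21.RR.st_comp _ _ y _)

/-- The invariants of `I ⊗ (Ω ⊗ N)` for a secant ideal. -/
theorem secant_iso (hd : topologicalKrullDim X = 1) {I N : X.Modules} (hI : PicF.IsInvertible I)
    (hN : PicF.IsInvertible N) {n : ℕ} (hdI : Curv2.deg k X I 1 = -(n : ℤ)) (hdN : Curv2.deg k X N 1 = (n : ℤ))
    (hsec : Curv2.genus k X ≤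
      h k 0 (CohB1.tensorMod I (CohB1.tensorMod (Omega.sheaf (X ↘ Spec (CommRingCat.of k))) N))) :
    Nonempty (CohB1.tensorMod N I ≅ Coh.structureModule X) := by
  have h0 := Groth.L21.RR.h0_eq_one_of_isAlgClosed (X := X) k
  have hΩ := isInvertible_omega (k := k) hd
  have hKN := Groth.L18.GenLoc.isInvertible_tensor hΩ hN
  obtain ⟨t⟩ := nonempty_iso_omega (k := k) hd h0 (Groth.L18.GenLoc.isInvertible_tensor hI hKN)
    (by rw [deg_tensor (k := k) hd hI hKN, deg_tensor (k := k) hd hΩ hN, hdI, hdN,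
      (omega_invariants (k := k) (X := X) hd).2.2 h0]
        show _ = 2 * (Curv2.genus k X : ℤ) - 2
        ring) hsec
  obtain ⟨D, hD, ⟨c⟩⟩ := Groth.L08.Cube.exists_inverse hΩ
  let Ω := Omega.sheaf (X ↘ Spec (CommRingCat.of k))
  let t' : CohB1.tensorMod Ω (CohB1.tensorMod N I) ≅ Ω :=
    (tensorAssoc Ω N I).symm ≪≫ tensorComm _ I ≪≫ t
  exact ⟨(tensorUnitLeft _).symm ≪≫ tensorIso (c.symm ≪≫ tensorComm Ω D) (Iso.refl _) ≪≫
    tensorAssoc D Ω _ ≪≫ tensorIso (Iso.refl D) t' ≪≫ tensorComm D Ω ≪≫ c⟩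

/-- Sections of `Ω ⊗ N` for `N` of positive degree. -/
theorem h0_omega_tensor (hd : topologicalKrullDim X = 1) {N : X.Modules} (hN : PicF.IsInvertible N)
    (hdN : 0 < Curv2.deg k X N 1) :
    (h k 0 (CohB1.tensorMod (Omega.sheaf (X ↘ Spec (CommRingCat.of k))) N) : ℤ) =
      Curv2.deg k X N 1 + Curv2.genus k X - 1 := by
  haveI := Groth.L21.RR.isNoetherian_of_proper (X := X) k
  have h0 := Groth.L21.RR.h0_eq_one_of_isAlgClosed (X := X) k
  have hΩ := isInvertible_omega (k := k) hd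
  have hKN := Groth.L18.GenLoc.isInvertible_tensor hΩ hN
  obtain ⟨D, hD, ⟨e⟩, hD0, -⟩ := exists_dual (k := k) hd hKN
  have hdΩ := (omega_invariants (k := k) (X := X) hd).2.2 h0
  have hdKN := deg_tensor (k := k) hd hΩ hN
  have h1 := deg_tensor (k := k) hd hD hKN
  rw [deg_congr (k := k) e, hdΩ, hdKN, hdΩ] at h1
  have hz : h k 0 D = 0 := by
    by_contra hne
    have := Groth.L21.RR.deg_nonneg k hd.le hD (nontrivial_of_h0_pos (k := k) (Nat.one_le_iff_ne_zero.2 hne))
    omega
  have hr := rr_deg (k := k) hd.le h0 (CohB1.tensorMod (Omega.sheaf (X ↘ Spec (CommRingCat.of k))) N)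
  rw [← hD0, hz, hdKN, hdΩ] at hr
  omega

end Groth.L21.Duality
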