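import Groth.Agent.L21.Duality.Special
import Groth.Agent.L16.ProjSpace.Basic
import Groth.Agent.S4466
import Groth.Prelude.Def_LinSer
import Groth.Prelude.Def_Omega3

/-!
Non-degenerate curves in projective space: sections and degree of the hyperplane class.
-/

set_option autoImplicit false
set_option backward.isDefEq.respectTransparency false
set_option linter.style.haveILetI false
universe u

open CategoryTheory CategoryTheory.Limits AlgebraicGeometry TopologicalSpace Opposite

noncomputable section

namespace Groth.L21.Duality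

open Groth.L21.RR (h)

variable {k : Type u} [Field k] {X : Scheme.{u}} [X.Over (Spec (CommRingCat.of k))]
  [IsProper (X ↘ Spec (CommRingCat.of k))]

theorem succ_le_h0_pullback_twist {r : ℕ} (i : X ⟶ CohB1.ProjSpace r k)
    (hi : i ≫ CohB1.ProjSpace.toSpec r k = X ↘ Spec (CommRingCat.of k))
    (hnd : ∀ s : LinSer.Sect (CohB1.ProjSpace r k) (Twist.twistProjSpace r k 1), s ≠ 0 →
      OmegaSh.pullSect i (Twist.twistProjSpace r k 1) ⊤ s ≠ 0) :
    r + 1 ≤ h k 0 ((Scheme.Modules.pullback i).obj (Twist.twistProjSpace r k 1)) := by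
  haveI := Groth.L21.RR.isNoetherian_of_proper (X := X) k
  haveI : IsProper (CohB1.ProjSpace.toSpec r k) := Groth.L16.ProjSpace.isProper_toSpec (n := r) (R := k)
  haveI : IsProper (CohB1.ProjSpace r k ↘ Spec (CommRingCat.of k)) :=
    inferInstanceAs (IsProper (CohB1.ProjSpace.toSpec r k))
  let M := (Scheme.Modules.pullback i).obj (Twist.twistProjSpace r k 1)
  have hM : PicF.IsInvertible M :=
    Groth.L18.Ample.isInvertible_pullback i (Groth.L16.ProjTwist.isInvertible_twistProjSpace r k 1)
  haveI := Groth.L21.RR.finite_HH' k (Groth.L16.ProperFinite.isCoh_of_isInvertible hM) 0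
  have hc : ∀ c : k, i.app ⊤ (Coh.toGlobal (CohB1.ProjSpace r k ↘ Spec (CommRingCat.of k)) c) =
      Coh.toGlobal (X ↘ Spec (CommRingCat.of k)) c := fun c => by
    have h1 : (CohB1.ProjSpace r k ↘ Spec (CommRingCat.of k)).appTop ≫ i.appTop =
        (X ↘ Spec (CommRingCat.of k)).appTop := by
      rw [← Scheme.Hom.comp_appTop, show i ≫ (CohB1.ProjSpace r k ↘ Spec (CommRingCat.of k)) = _ from hi]
    exact congr($(h1) ((Scheme.ΓSpecIso (CommRingCat.of k)).inv c))
  let T := Twist.twistProjSpace r k 1
  let F : Coh.HH (CohB1.ProjSpace r k) T 0 →ₗ[k] Coh.HH X M 0 :=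
    { toFun := fun x => (Groth.L21.RR.e0 M).symm
        (OmegaSh.pullSect i T ⊤ (Groth.L21.RR.e0 T x))
      map_add' := fun x y => by
        rw [map_add]
        exact (congrArg _ (map_add (OmegaSh.pullSect i T ⊤).hom _ _)).trans (map_add _ _ _)
      map_smul' := fun c x => by
        apply (Groth.L21.RR.e0 M).injective
        rw [RingHom.id_apply, Groth.L21.RR.e0_smul, Groth.L21.RR.e0_smul, AddEquiv.apply_symm_apply,
          AddEquiv.apply_symm_apply]
        refine (Scheme.Modules.Hom.app_smul ((Scheme.Modules.pullbackPushforwardAdjunction i).unit.app T) _ _).trans ?_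
        exact congrArg (fun a : Γ(X, ⊤) => (a • (show Γ(M, ⊤) from OmegaSh.pullSect i T ⊤ (Groth.L21.RR.e0 T x)) : Γ(M, ⊤))) (hc c) }
  have hinj : Function.Injective F := (injective_iff_map_eq_zero F).2 fun x hx => by
    by_contra hne
    refine hnd (Groth.L21.RR.e0 T x) (fun h0 => hne ((Groth.L21.RR.e0 T).injective (h0.trans (map_zero _).symm))) ?_
    have h2 := congrArg (Groth.L21.RR.e0 M) hx
    rw [map_zero] at h2
    exact ((Groth.L21.RR.e0 M).apply_symm_apply _).symm.trans h2
  have hdim : Module.finrank k (Coh.HH (CohB1.ProjSpace r k) T 0) = r + 1 := by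
    obtain ⟨e⟩ := Groth.L16.ProjSpace.nonempty_H0_twist_linearEquiv (n := r) (R := k) 1
    rw [show T = Twist.twistProjSpace r k ((1 : ℕ) : ℤ) from rfl, e.finrank_eq,
      (Groth.L03.PlanePoints.finrank_homogeneous (F := k) r 1).2]
    rw [add_comm 1 r, Nat.choose_succ_self_right]
  exact hdim ▸ LinearMap.finrank_le_finrank_of_injective hinj

/-- The sections of an invertible module on an integral curve. -/
theorem h0_le_deg_add (hd : topologicalKrullDim X ≤ 1) [IsIntegral X] (h0 : h k 0 (Coh.structureModule X) = 1)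
    {L : X.Modules} (hL : PicF.IsInvertible L) (hpos : 1 ≤ h k 0 L) :
    (h k 0 L : ℤ) ≤ Curv2.deg k X L 1 + 1 := by
  haveI := nontrivial_of_h0_pos (k := k) hpos
  obtain ⟨φ, hφ⟩ := Groth.L21.RR.exists_hom_ne_zero (L := L)
  have h1 := (Groth.L21.RR.h0_le_add k hd hL hφ).1
  rw [h0] at h1
  rw [Groth.L21.RR.deg_eq_h0_cokernel k hd hL hφ]
  omega

end Groth.L21.Duality
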