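import Groth.Agent.L21.Duality.Chart
import Groth.Agent.L21.Duality.Omega
import Groth.Agent.L21.P1.PullTwist
import Groth.Agent.L20.ResDescent

/-!
Duality for direct images along a separable cover of the projective line.
-/

set_option autoImplicit false
set_option backward.isDefEq.respectTransparency false
set_option linter.style.haveILetI false
set_option linter.unusedSectionVars false
set_option maxHeartbeats 1000000
universe u

open CategoryTheory CategoryTheory.Limits AlgebraicGeometry TopologicalSpace Opposite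
open scoped nonZeroDivisors

noncomputable section

namespace Groth.L21.Duality

open Groth.L18.PUP (P pr)
open Groth.L18.Frame (rs ro rs_smul rs_rs IsFrame)
open Groth.L19.ProjBdl (IsBasisOn lc app_lc app_rs)
open Groth.L21.P1 (U U01 φ φ_bijective pol lau ψ O sumO stdBasis isBasisOn_stdBasis stdBasis_transition res_pol_zero
  res_pol_one res app_res ψ_toLaurent ψ_invert_toLaurent)
open Groth.L21.Disc (overMap overMap_germ)

variable {k : Type u} [Field k] {X : Scheme.{u}} [IsIntegral X]

theorem bijective_lc_top {r : ℕ} {E : (P 1 k).Modules} {i : Fin 2} {n : Fin r → Γ(E, U k i)}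
    (hE : FlatMod.IsFinLocFree E)
    (hn : Function.Bijective fun c : Fin r → Γ(P 1 k, U k i) => ∑ l, c l • n l) : IsBasisOn E (U k i) n := by
  classical
  obtain ⟨m, hm⟩ := Groth.L21.Disc.exists_rank hE
  obtain ⟨c, hc⟩ := Groth.L21.P1.exists_basis_chart k hm i
  haveI : Nontrivial Γ(P 1 k, U k i) := ((φ_bijective k i).1).nontrivial
  have hc' : Function.Bijective fun a : Fin m → Γ(P 1 k, U k i) => ∑ l, a l • c l := by
    have e : (fun a : Fin m → Γ(P 1 k, U k i) => ∑ l, a l • c l) = lc E c (le_refl (U k i)) := funext fun a =>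
      Finset.sum_congr rfl fun l _ => by rw [Groth.L18.Frame.rs_self]
    rw [e]
    exact hc (U k i) le_rfl
  let en := LinearEquiv.ofBijective (Fintype.linearCombination Γ(P 1 k, U k i) n)
    ((show ⇑(Fintype.linearCombination Γ(P 1 k, U k i) n) = fun a => ∑ l, a l • n l from
      funext fun a => Fintype.linearCombination_apply _ _ _) ▸ hn)
  let ec := LinearEquiv.ofBijective (Fintype.linearCombination Γ(P 1 k, U k i) c)
    ((show ⇑(Fintype.linearCombination Γ(P 1 k, U k i) c) = fun a => ∑ l, a l • c l from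
      funext fun a => Fintype.linearCombination_apply _ _ _) ▸ hc')
  obtain rfl : m = r := by simpa using (ec.trans en.symm).finrank_eq
  obtain ⟨Q, hQ⟩ := Groth.L21.P1.exists_comb hc n
  choose R hR using fun j => hn.2 (c j)
  have hQR : Q * Matrix.of (fun l j => R j l) = 1 :=
    Groth.L21.P1.comb_injective hc (by
      rw [← Groth.L21.P1.comb_comb, hQ, Groth.L21.P1.comb_one]
      exact funext hR)
  rw [← hQ]
  exact Groth.L21.P1.isBasisOn_comb hc ⟨⟨Q, _, hQR, mul_eq_one_comm.1 hQR⟩, rfl⟩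

variable [X.Over (Spec (CommRingCat.of k))] [IsProper (X ↘ Spec (CommRingCat.of k))]
  (f : X ⟶ P 1 k) [IsFinite f]

omit [IsFinite f] in
/-- The two coordinate differentials. -/
theorem δ_one_eq (hdom : f (genericPoint X) = genericPoint (P 1 k)) :
    δ f 1 (generic_mem_chart f hdom 1).2 =
      (-((γη (show genericPoint X ∈ f ⁻¹ᵁ U01 k from
          ⟨(generic_mem_chart f hdom 0).2, (generic_mem_chart f hdom 1).2⟩))
        (lau f (LaurentPolynomial.T (-2))))) • δ f 0 (generic_mem_chart f hdom 0).2 := by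
  set p := X ↘ Spec (CommRingCat.of k)
  let ω := Omega.sheaf p
  have h0 := (generic_mem_chart f hdom 0).2
  have h1 := (generic_mem_chart f hdom 1).2
  have h01 : genericPoint X ∈ f ⁻¹ᵁ U01 k := ⟨h0, h1⟩
  let le0 : f ⁻¹ᵁ U01 k ≤ f ⁻¹ᵁ U k 0 := f.preimage_mono inf_le_left
  let le1 : f ⁻¹ᵁ U01 k ≤ f ⁻¹ᵁ U k 1 := f.preimage_mono inf_le_right
  let a := ro le0 (pol f 0 Polynomial.X)
  let b := ro le1 (pol f 1 Polynomial.X)
  have ha : a = lau f (LaurentPolynomial.T 1) :=
    (res_pol_zero f Polynomial.X).trans (by rw [Polynomial.toLaurent_X])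
  have hb : b = lau f (LaurentPolynomial.T (-1)) :=
    (res_pol_one f Polynomial.X).trans (by rw [Polynomial.toLaurent_X, LaurentPolynomial.invert_T])
  have hda : gη ω h01 (OmegaSh.dSect p _ a) = δ f 0 h0 := by
    rw [show OmegaSh.dSect p (f ⁻¹ᵁ U01 k) a = rs ω le0 (OmegaSh.dSect p _ (pol f 0 Polynomial.X)) from
      OmegaSh.dSect_map p le0 _, gη_rs]
    rfl
  have hdb : gη ω h01 (OmegaSh.dSect p _ b) = δ f 1 h1 := by
    rw [show OmegaSh.dSect p (f ⁻¹ᵁ U01 k) b = rs ω le1 (OmegaSh.dSect p _ (pol f 1 Polynomial.X)) from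
      OmegaSh.dSect_map p le1 _, gη_rs]
    rfl
  have hab : a * b = 1 := by
    rw [ha, hb, ← map_mul, ← LaurentPolynomial.T_add, add_neg_cancel, LaurentPolynomial.T_zero, map_one]
  have hd1 : OmegaSh.dSect p (f ⁻¹ᵁ U01 k) 1 = 0 := by
    have h := OmegaSh.dSect_mul p (f ⁻¹ᵁ U01 k) 1 1
    rw [mul_one, one_smul] at h
    exact left_eq_add.1 h
  have h2 : γη h01 a • δ f 1 h1 + γη h01 b • δ f 0 h0 = 0 := by
    rw [← hda, ← hdb, ← gη_smul, ← gη_smul]
    refine (map_add (ω.presheaf.germ (f ⁻¹ᵁ U01 k) (genericPoint X) h01).hom _ _).symm.trans ?_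
    rw [← OmegaSh.dSect_mul, hab, hd1, map_zero]
  have h3 := congrArg (fun v => γη h01 b • v) h2
  simp only [smul_add, smul_zero, smul_smul, ← map_mul] at h3
  rw [mul_comm b a, hab, map_one, one_smul, add_eq_zero_iff_eq_neg, hb, ← map_mul, ← LaurentPolynomial.T_add,
    ← neg_smul] at h3
  exact h3

variable (hdom : f (genericPoint X) = genericPoint (P 1 k))

/-- The trace between the two function fields. -/
def trη : X.functionField → (P 1 k).functionField := fun x =>
  letI := (overMap f (genericPoint X) (genericPoint (P 1 k)) hdom).toAlgebra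
  Algebra.trace (P 1 k).functionField X.functionField x

omit [IsProper (X ↘ Spec (CommRingCat.of k))] [IsFinite f] in
theorem trη_sum {ι : Type*} (s : Finset ι) (x : ι → X.functionField) :
    trη f hdom (∑ l ∈ s, x l) = ∑ l ∈ s, trη f hdom (x l) := by
  unfold trη; exact map_sum _ _ _

omit [IsProper (X ↘ Spec (CommRingCat.of k))] [IsFinite f] in
theorem trη_neg (x : X.functionField) : trη f hdom (-x) = -trη f hdom x := by
  unfold trη; exact map_neg _ _

omit [IsProper (X ↘ Spec (CommRingCat.of k))] [IsFinite f] in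
theorem trη_app_mul (V : (P 1 k).Opens) (hV : genericPoint (P 1 k) ∈ V) (hV' : genericPoint X ∈ f ⁻¹ᵁ V)
    (a : Γ(P 1 k, V)) (x : X.functionField) :
    trη f hdom (γη hV' (f.app V a) * x) = γη hV a * trη f hdom x := by
  unfold trη
  letI := (overMap f (genericPoint X) (genericPoint (P 1 k)) hdom).toAlgebra
  have h : algebraMap (P 1 k).functionField X.functionField (γη hV a) = γη hV' (f.app V a) :=
    overMap_germ f (genericPoint X) (genericPoint (P 1 k)) hdom V hV a
  show Algebra.trace _ _ (γη hV' (f.app V a) * x) = γη hV a * Algebra.trace _ _ x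
  rw [← h, ← Algebra.smul_def, LinearMap.map_smul, smul_eq_mul]

omit [IsProper (X ↘ Spec (CommRingCat.of k))] [IsFinite f] in
theorem trη_pol_mul (i : Fin 2) (hiP : genericPoint (P 1 k) ∈ U k i) (hi : genericPoint X ∈ f ⁻¹ᵁ U k i)
    (a : Polynomial k) (x : X.functionField) :
    trη f hdom (γη hi (pol f i a) * x) = ιP i hiP a * trη f hdom x :=
  trη_app_mul f hdom (U k i) hiP hi (φ k i a) x

omit [IsProper (X ↘ Spec (CommRingCat.of k))] in
theorem finiteDimensional_functionField :
    letI := (overMap f (genericPoint X) (genericPoint (P 1 k)) hdom).toAlgebra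
    FiniteDimensional (P 1 k).functionField X.functionField := by
  letI algFK := (overMap f (genericPoint X) (genericPoint (P 1 k)) hdom).toAlgebra
  obtain ⟨hiP, hi⟩ := generic_mem_chart f hdom 0
  have hU : IsAffineOpen (U k 0) := Proj.isAffineOpen_basicOpen _ _ (Groth.L18.PS.X_mem 1 0) one_pos
  haveI : Nonempty (U k 0) := ⟨⟨_, hiP⟩⟩
  haveI : Nonempty (f ⁻¹ᵁ U k 0 : X.Opens) := ⟨⟨_, hi⟩⟩
  haveI := functionField_isFractionRing_of_isAffineOpen (P 1 k) (U k 0) hU
  haveI := functionField_isFractionRing_of_isAffineOpen X (f ⁻¹ᵁ U k 0) (hU.preimage f)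
  letI : Algebra Γ(P 1 k, U k 0) Γ(X, f ⁻¹ᵁ U k 0) := (f.app (U k 0)).hom.toAlgebra
  letI : Algebra Γ(P 1 k, U k 0) X.functionField := ((γη hi).comp (f.app (U k 0)).hom).toAlgebra
  haveI : IsScalarTower Γ(P 1 k, U k 0) Γ(X, f ⁻¹ᵁ U k 0) X.functionField := IsScalarTower.of_algebraMap_eq' rfl
  haveI : IsScalarTower Γ(P 1 k, U k 0) (P 1 k).functionField X.functionField :=
    IsScalarTower.of_algebraMap_eq fun a =>
      (overMap_germ f (genericPoint X) (genericPoint (P 1 k)) hdom (U k 0) hiP a).symm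
  haveI : Module.Finite Γ(P 1 k, U k 0) Γ(X, f ⁻¹ᵁ U k 0) := f.finite_app (U k 0) hU
  haveI : FaithfulSMul Γ(P 1 k, U k 0) Γ(X, f ⁻¹ᵁ U k 0) := by
    refine (faithfulSMul_iff_algebraMap_injective _ _).2 fun a b hab => ?_
    refine IsFractionRing.injective Γ(P 1 k, U k 0) (P 1 k).functionField
      ((algebraMap (P 1 k).functionField X.functionField).injective ?_)
    rw [← IsScalarTower.algebraMap_apply, ← IsScalarTower.algebraMap_apply]
    exact congrArg (γη hi) hab
  exact .of_isLocalization Γ(P 1 k, U k 0) Γ(X, f ⁻¹ᵁ U k 0) Γ(P 1 k, U k 0)⁰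

/-- The trace form is nondegenerate on the sections of a chart. -/
theorem eq_zero_of_trη [Smooth (X ↘ Spec (CommRingCat.of k))] (hd : topologicalKrullDim X ≤ 1)
    (hsep : letI := (overMap f (genericPoint X) (genericPoint (P 1 k)) hdom).toAlgebra
      Algebra.IsSeparable (P 1 k).functionField X.functionField) (i : Fin 2) (z : X.functionField)
    (hz : ∀ u : Γ(X, f ⁻¹ᵁ U k i), trη f hdom (γη (generic_mem_chart f hdom i).2 u * z) = 0) : z = 0 := by
  haveI := Groth.L21.RR.isNoetherian_of_proper (X := X) k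
  set p := X ↘ Spec (CommRingCat.of k)
  letI algFK := (overMap f (genericPoint X) (genericPoint (P 1 k)) hdom).toAlgebra
  haveI := hsep
  haveI := finiteDimensional_functionField f hdom
  obtain ⟨hiP, hi⟩ := generic_mem_chart f hdom i
  let F := (P 1 k).functionField
  let K := X.functionField
  have hU : IsAffineOpen (U k i) := Proj.isAffineOpen_basicOpen _ _ (Groth.L18.PS.X_mem 1 i) one_pos
  haveI : Nonempty (U k i) := ⟨⟨_, hiP⟩⟩
  haveI : Nonempty (f ⁻¹ᵁ U k i : X.Opens) := ⟨⟨_, hi⟩⟩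
  haveI := functionField_isFractionRing_of_isAffineOpen X (f ⁻¹ᵁ U k i) (hU.preimage f)
  haveI := functionField_isFractionRing_of_isAffineOpen (P 1 k) (U k i) hU
  letI : Algebra Γ(P 1 k, U k i) Γ(X, f ⁻¹ᵁ U k i) := (f.app (U k i)).hom.toAlgebra
  letI : Algebra Γ(P 1 k, U k i) K := ((γη hi).comp (f.app (U k i)).hom).toAlgebra
  haveI : IsScalarTower Γ(P 1 k, U k i) Γ(X, f ⁻¹ᵁ U k i) K := IsScalarTower.of_algebraMap_eq' rfl
  haveI : IsScalarTower Γ(P 1 k, U k i) F K := IsScalarTower.of_algebraMap_eq fun a =>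
    (overMap_germ f (genericPoint X) (genericPoint (P 1 k)) hdom (U k i) hiP a).symm
  haveI := Groth.L21.isDedekindDomain_of_normal hd (fun x =>
    ⟨Groth.L21.Smooth.isDomain_stalk p x, Groth.L21.Smooth.isIntegrallyClosed_stalk p x⟩) (hU.preimage f)
  haveI : IsIntegralClosure Γ(X, f ⁻¹ᵁ U k i) Γ(P 1 k, U k i) K := by
    haveI : Module.Finite Γ(P 1 k, U k i) Γ(X, f ⁻¹ᵁ U k i) := f.finite_app (U k i) hU
    exact IsIntegralClosure.of_isIntegrallyClosed _ _ _
  haveI := IsIntegralClosure.isLocalization Γ(P 1 k, U k i) F K Γ(X, f ⁻¹ᵁ U k i)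
  refine (traceForm_nondegenerate F K).1 z fun x => ?_
  obtain ⟨⟨u, v⟩, huv⟩ :=
    IsLocalization.surj (Algebra.algebraMapSubmonoid Γ(X, f ⁻¹ᵁ U k i) Γ(P 1 k, U k i)⁰) x
  obtain ⟨w, hw, hwv⟩ := v.2
  have hw' : γη hiP w ≠ 0 :=
    (map_ne_zero_iff (algebraMap Γ(P 1 k, U k i) F) (IsFractionRing.injective _ F)).2 (nonZeroDivisors.ne_zero hw)
  have h1 : γη hi u = γη hi (f.app (U k i) w) * x := by
    dsimp only at huv
    rw [mul_comm] at huv
    refine huv.symm.trans ?_
    rw [← hwv]
    rfl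
  have h2 := hz u
  rw [h1, mul_assoc, trη_app_mul f hdom (U k i) hiP hi] at h2
  rw [Algebra.traceForm_apply, mul_comm]
  exact (mul_eq_zero.1 h2).resolve_left hw'

omit [IsFinite f] in
theorem exists_gη_ne_zero [IsLocallyNoetherian X] {L : X.Modules} (hL : PicF.IsInvertible L) {W : X.Opens} (hW : IsAffineOpen W)
    (hη : genericPoint X ∈ W) : ∃ a : Γ(L, W), gη L hη a ≠ 0 := by
  haveI : Nonempty W := ⟨⟨_, hη⟩⟩
  haveI := functionField_isFractionRing_of_isAffineOpen X W hW
  haveI : Coh.IsQCoh L := (Groth.L16.ProperFinite.isCoh_of_isInvertible hL).1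
  obtain ⟨W₀, ε, hW₀, hε⟩ := Groth.L18.Frame.exists_frame hL (genericPoint X)
  have hεne : gη L hW₀ ε ≠ 0 := fun h0 => one_ne_zero ((Groth.L21.RR.bijective_germ_frame hε hW₀).1
    (a₁ := (1 : X.functionField)) (a₂ := 0)
    (by show (1 : X.functionField) • gη L hW₀ ε = (0 : X.functionField) • gη L hW₀ ε; rw [h0, smul_zero, smul_zero]))
  letI := Groth.L20.ModStalk.stalkModule L hη
  haveI hloc := Groth.L20.ModStalk.isLocalizedModule_germ L hW hη
  obtain ⟨⟨a, t⟩, hat⟩ := IsLocalizedModule.surj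
    (hW.primeIdealOf ⟨genericPoint X, hη⟩).asIdeal.primeCompl
    (Groth.L20.ModStalk.germₗ L hη) (gη L hW₀ ε)
  refine ⟨a, fun h0 => hεne ?_⟩
  have h1 : γη hη t.1 • gη L hW₀ ε = 0 := hat.trans h0
  exact (smul_eq_zero.1 h1).resolve_left ((map_ne_zero_iff _ (IsFractionRing.injective _ X.functionField)).2
    fun h => t.2 (h ▸ zero_mem _))

/-- The coordinate of the generic pairing against the coordinate differential of a chart. -/
structure Coord (N L : X.Modules) (e : CohB1.tensorMod N L ≅ Omega.sheaf (X ↘ Spec (CommRingCat.of k))) (i : Fin 2)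
    (hi : genericPoint X ∈ f ⁻¹ᵁ U k i) where
  κ : N.presheaf.stalk (genericPoint X) →ₗ[X.functionField]
    L.presheaf.stalk (genericPoint X) →ₗ[X.functionField] X.functionField
  spec : ∀ (V : X.Opens) (hV : genericPoint X ∈ V) (n : Γ(N, V)) (l : Γ(L, V)),
    κ (gη N hV n) (gη L hV l) • δ f i hi = gη (Omega.sheaf (X ↘ Spec (CommRingCat.of k))) hV (prod e V n l)
  nondeg : ∀ a b, κ a b = 0 → a = 0 ∨ b = 0

section Chart

variable [Smooth (X ↘ Spec (CommRingCat.of k))] (hd : topologicalKrullDim X ≤ 1)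
  (hsep : letI := (overMap f (genericPoint X) (genericPoint (P 1 k)) hdom).toAlgebra
    Algebra.IsSeparable (P 1 k).functionField X.functionField)
  {N L : X.Modules} (hN : PicF.IsInvertible N) (hL : PicF.IsInvertible L)
  {e : CohB1.tensorMod N L ≅ Omega.sheaf (X ↘ Spec (CommRingCat.of k))} {i : Fin 2}
  (c₀ : Coord f N L e i (generic_mem_chart f hdom i).2) {r : ℕ} (b : Fin r → Γ(L, f ⁻¹ᵁ U k i))
  (hb : Function.Bijective fun c : Fin r → Polynomial k => ∑ l, pol f i (c l) • b l)

omit [Smooth (X ↘ Spec (CommRingCat.of k))] in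
theorem gη_sum_pol {M : X.Modules} (n : Fin r → Γ(M, f ⁻¹ᵁ U k i)) (c : Fin r → Polynomial k)
    (hi : genericPoint X ∈ f ⁻¹ᵁ U k i) :
    gη M hi (∑ l, pol f i (c l) • n l) = ∑ l, γη hi (pol f i (c l)) • gη M hi (n l) := by
  refine (map_sum (M.presheaf.germ (f ⁻¹ᵁ U k i) (genericPoint X) hi).hom _ _).trans ?_
  exact Finset.sum_congr rfl fun l _ => gη_smul M hi _ _

include hb in
omit [Smooth (X ↘ Spec (CommRingCat.of k))] in
/-- Traces against an arbitrary section are combinations of the traces against a basis. -/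
theorem exists_trη_eq (ν : N.presheaf.stalk (genericPoint X)) (a : Γ(L, f ⁻¹ᵁ U k i)) :
    ∃ c : Fin r → Polynomial k,
      trη f hdom (c₀.κ ν (gη L (generic_mem_chart f hdom i).2 a)) =
        ∑ l, ιP i (generic_mem_chart f hdom i).1 (c l) *
          trη f hdom (c₀.κ ν (gη L (generic_mem_chart f hdom i).2 (b l))) := by
  obtain ⟨c, rfl⟩ := hb.2 a
  refine ⟨c, ?_⟩
  rw [gη_sum_pol f b c, map_sum, trη_sum]
  refine Finset.sum_congr rfl fun l _ => ?_
  rw [LinearMap.map_smul, smul_eq_mul, trη_pol_mul]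

include hd hsep hL hb in
theorem eq_zero_of_coord {ν : N.presheaf.stalk (genericPoint X)}
    (hν : ∀ m, trη f hdom (c₀.κ ν (gη L (generic_mem_chart f hdom i).2 (b m))) = 0) : ν = 0 := by
  have hU : IsAffineOpen (U k i) := Proj.isAffineOpen_basicOpen _ _ (Groth.L18.PS.X_mem 1 i) one_pos
  haveI := Groth.L21.RR.isNoetherian_of_proper (X := X) k
  obtain ⟨a, ha⟩ := exists_gη_ne_zero hL (hU.preimage f) (generic_mem_chart f hdom i).2
  have h0 : c₀.κ ν (gη L (generic_mem_chart f hdom i).2 a) = 0 := eq_zero_of_trη f hdom hd hsep i _ fun u => by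
    obtain ⟨c, hc⟩ := exists_trη_eq f hdom c₀ b hb ν (u • a)
    rw [gη_smul, LinearMap.map_smul, smul_eq_mul] at hc
    rw [hc]
    exact Finset.sum_eq_zero fun l _ => by rw [hν, mul_zero]
  exact (c₀.nondeg _ _ h0).resolve_right ha

include hd hsep hN hL hb in
theorem exists_generic_dual (v : Fin r → (P 1 k).functionField) :
    ∃ ν : N.presheaf.stalk (genericPoint X),
      ∀ m, trη f hdom (c₀.κ ν (gη L (generic_mem_chart f hdom i).2 (b m))) = v m := by
  let F := (P 1 k).functionField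
  let K := X.functionField
  letI algFK := (overMap f (genericPoint X) (genericPoint (P 1 k)) hdom).toAlgebra
  haveI := finiteDimensional_functionField f hdom
  obtain ⟨hiP, hi⟩ := generic_mem_chart f hdom i
  letI : Module F (N.presheaf.stalk (genericPoint X)) := Module.compHom _ (algebraMap F K)
  haveI : IsScalarTower F K (N.presheaf.stalk (genericPoint X)) := IsScalarTower.of_compHom _ _ _
  letI : Module F (L.presheaf.stalk (genericPoint X)) := Module.compHom _ (algebraMap F K)
  haveI : IsScalarTower F K (L.presheaf.stalk (genericPoint X)) := IsScalarTower.of_compHom _ _ _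
  let T : N.presheaf.stalk (genericPoint X) →ₗ[F] (Fin r → F) := LinearMap.pi fun l =>
    (Algebra.trace F K).comp ((c₀.κ.flip (gη L hi (b l))).restrictScalars F)
  have hTinj : Function.Injective T := (injective_iff_map_eq_zero _).2 fun ν hν =>
    eq_zero_of_coord f hdom hd hsep hL c₀ b hb fun m => congrFun hν m
  obtain ⟨WN, εN, hWN, hεN⟩ := Groth.L18.Frame.exists_frame hN (genericPoint X)
  obtain ⟨WL, εL, hWL, hεL⟩ := Groth.L18.Frame.exists_frame hL (genericPoint X)
  let eN := (LinearEquiv.ofBijective (LinearMap.toSpanSingleton K _ (gη N hWN εN))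
    (Groth.L21.RR.bijective_germ_frame hεN hWN)).restrictScalars F
  let eL := (LinearEquiv.ofBijective (LinearMap.toSpanSingleton K _ (gη L hWL εL))
    (Groth.L21.RR.bijective_germ_frame hεL hWL)).restrictScalars F
  haveI : FiniteDimensional F (L.presheaf.stalk (genericPoint X)) := eL.finiteDimensional
  haveI : FiniteDimensional F (N.presheaf.stalk (genericPoint X)) := eN.finiteDimensional
  letI : Algebra (Polynomial k) F := (ιP i hiP).toAlgebra
  haveI : Nonempty (U k i) := ⟨⟨_, hiP⟩⟩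
  haveI : FaithfulSMul (Polynomial k) F := (faithfulSMul_iff_algebraMap_injective _ _).2
    ((germ_injective_of_isIntegral (P 1 k) _ hiP).comp (φ_bijective k i).1)
  haveI : IsFractionRing (Polynomial k) F := by
    haveI := functionField_isFractionRing_of_isAffineOpen (P 1 k) (U k i)
      (Proj.isAffineOpen_basicOpen _ _ (Groth.L18.PS.X_mem 1 i) one_pos)
    refine IsFractionRing.of_field _ _ fun z => ?_
    obtain ⟨x, y, -, hz⟩ := IsFractionRing.div_surjective (A := Γ(P 1 k, U k i)) z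
    obtain ⟨x', rfl⟩ := (φ_bijective k i).2 x
    obtain ⟨y', rfl⟩ := (φ_bijective k i).2 y
    exact ⟨x', y', hz.symm⟩
  letI : Module (Polynomial k) (L.presheaf.stalk (genericPoint X)) := Module.compHom _ (ιP i hiP)
  haveI : IsScalarTower (Polynomial k) F (L.presheaf.stalk (genericPoint X)) := IsScalarTower.of_compHom _ _ _
  have hli : LinearIndependent F (fun l => gη L hi (b l)) := by
    rw [← LinearIndependent.iff_fractionRing (Polynomial k) F]
    refine Fintype.linearIndependent_iff.2 fun c hc l => ?_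
    have h0 : (∑ l, pol f i (c l) • b l) = 0 := by
      refine gη_injective hL hi ?_
      refine Eq.trans ?_ (map_zero (L.presheaf.germ (f ⁻¹ᵁ U k i) (genericPoint X) hi).hom).symm
      rw [gη_sum_pol f b c hi, ← hc]
      refine Finset.sum_congr rfl fun l _ => ?_
      show _ = algebraMap F K (ιP i hiP (c l)) • gη L hi (b l)
      exact congrArg (· • gη L hi (b l))
        (overMap_germ f (genericPoint X) (genericPoint (P 1 k)) hdom (U k i) hiP (φ k i (c l))).symm
    refine congrFun (hb.1 (a₁ := c) (a₂ := 0) (h0.trans ?_)) l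
    simp only [Pi.zero_apply, map_zero, zero_smul, Finset.sum_const_zero]
  have h1 := hli.fintype_card_le_finrank
  rw [Fintype.card_fin, ← eL.finrank_eq, eN.finrank_eq] at h1
  have h2 := LinearMap.finrank_le_finrank_of_injective hTinj
  rw [Module.finrank_fin_fun] at h2
  obtain ⟨ν, hν⟩ := (LinearMap.injective_iff_surjective_of_finrank_eq_finrank
    (by rw [Module.finrank_fin_fun]; exact le_antisymm h2 h1)).1 hTinj v
  exact ⟨ν, fun m => congrFun hν m⟩

include hd hsep hN hL in
/-- A generic element whose traces against all sections of `L` are regular is a section of `N`. -/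
theorem exists_section_of_coord (hf : f ≫ pr 1 k = X ↘ Spec (CommRingCat.of k))
    (ν : N.presheaf.stalk (genericPoint X))
    (hν : ∀ a : Γ(L, f ⁻¹ᵁ U k i), ∃ q : Polynomial k,
      trη f hdom (c₀.κ ν (gη L (generic_mem_chart f hdom i).2 a)) = ιP i (generic_mem_chart f hdom i).1 q) :
    ∃ s : Γ(N, f ⁻¹ᵁ U k i), gη N (generic_mem_chart f hdom i).2 s = ν := by
  obtain ⟨hiP, hi⟩ := generic_mem_chart f hdom i
  refine exists_section_of_local hN hi ν fun x hx => ?_
  have hU : IsAffineOpen (f ⁻¹ᵁ U k i) :=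
    (Proj.isAffineOpen_basicOpen _ _ (Groth.L18.PS.X_mem 1 i) one_pos).preimage f
  haveI := Groth.L21.RR.isNoetherian_of_proper (X := X) k
  haveI : Coh.IsQCoh L := (Groth.L16.ProperFinite.isCoh_of_isInvertible hL).1
  obtain ⟨W₀, n₀, ε, hxW₀, hn₀, hε⟩ := Groth.L21.RR.exists_frames hN hL x
  letI := Groth.L20.ModStalk.stalkModule L hx
  letI := X.presheaf.algebra_section_stalk ⟨x, hx⟩
  haveI := hU.isLocalization_stalk ⟨x, hx⟩
  haveI hloc := Groth.L20.ModStalk.isLocalizedModule_germ L hU hx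
  obtain ⟨⟨a, t⟩, hat⟩ := IsLocalizedModule.surj (hU.primeIdealOf ⟨x, hx⟩).asIdeal.primeCompl
    (Groth.L20.ModStalk.germₗ L hx) (L.presheaf.germ W₀ x hxW₀ ε)
  have hxV₀ : x ∈ f ⁻¹ᵁ U k i ⊓ W₀ := ⟨hx, hxW₀⟩
  obtain ⟨c, hc⟩ := hε.exists_coeff (inf_le_right : f ⁻¹ᵁ U k i ⊓ W₀ ≤ W₀) (rs L inf_le_left a)
  have hcu : IsUnit (X.presheaf.germ _ x hxV₀ c) := by
    have h1 : X.presheaf.germ _ x hxV₀ c • L.presheaf.germ W₀ x hxW₀ ε =
        X.presheaf.germ (f ⁻¹ᵁ U k i) x hx t.1 • L.presheaf.germ W₀ x hxW₀ ε := by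
      have hat' : X.presheaf.germ (f ⁻¹ᵁ U k i) x hx t.1 • L.presheaf.germ W₀ x hxW₀ ε =
          L.presheaf.germ (f ⁻¹ᵁ U k i) x hx a := hat
      rw [hat', ← Groth.L20.ModStalk.germ_rs L (inf_le_right : f ⁻¹ᵁ U k i ⊓ W₀ ≤ W₀) hxV₀ ε,
        ← Groth.L20.ModStalk.germ_smul, hc, Groth.L20.ModStalk.germ_rs]
    rw [(Groth.L21.RR.bijective_germ_frame hε hxW₀).1 h1]
    exact IsLocalization.map_units (X.presheaf.stalk x) t
  let V := X.basicOpen c
  have hxV : x ∈ V := (X.mem_basicOpen c x hxV₀).2 hcu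
  have hVle : V ≤ f ⁻¹ᵁ U k i ⊓ W₀ := X.basicOpen_le c
  have hVW : V ≤ f ⁻¹ᵁ U k i := hVle.trans inf_le_left
  have hfr : IsFrame L V (rs L hVW a) := by
    have h1 : rs L hVW a = ro hVle c • rs L (hVle.trans inf_le_right) ε := by
      rw [← rs_rs L inf_le_left hVle a, ← hc, rs_smul, rs_rs]
    rw [h1]
    exact (hε.mono (hVle.trans inf_le_right)).smul_unit (RingedSpace.isUnit_res_basicOpen X.toRingedSpace c)
  have hVn := hn₀.mono (hVle.trans inf_le_right)
  have hreg : ∀ bb : Γ(X, f ⁻¹ᵁ U k i), ∃ q : Polynomial k,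
      trη f hdom (c₀.κ ν (gη L hi a) * γη hi bb) = ιP i hiP q := fun bb => by
    obtain ⟨q, hq⟩ := hν (bb • a)
    refine ⟨q, ?_⟩
    rw [gη_smul, LinearMap.map_smul, smul_eq_mul, mul_comm] at hq
    exact hq
  obtain ⟨s', hs'⟩ := ((chart_spec f hd hf hdom hsep i).2 _).1 hreg
  obtain ⟨q, hq⟩ := (isFrame_prod e hVn hfr).exists_coeff le_rfl
    (rs (Omega.sheaf (X ↘ Spec (CommRingCat.of k))) hVW s')
  rw [Groth.L18.Frame.rs_self] at hq
  refine ⟨V, hxV, q • rs N (hVle.trans inf_le_right) n₀, ?_⟩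
  have hηV := generic_mem hxV
  have h1 : c₀.κ (gη N hηV (q • rs N (hVle.trans inf_le_right) n₀)) (gη L hi a) = c₀.κ ν (gη L hi a) := by
    refine ((chart_spec f hd hf hdom hsep i).1 (c₀.κ ν (gη L hi a) • δ f i hi)).unique ?_ rfl
    show c₀.κ (gη N hηV _) (gη L hi a) • δ f i hi = _
    rw [← gη_rs L hVW hηV a, c₀.spec, ← one_smul Γ(X, V) (rs L hVW a), prod_smul, mul_one, one_smul, hq, gη_rs, hs',
      gη_rs]
  have h2 : c₀.κ (gη N hηV (q • rs N (hVle.trans inf_le_right) n₀) - ν) (gη L hi a) = 0 := by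
    rw [map_sub, LinearMap.sub_apply, h1, sub_self]
  rcases c₀.nondeg _ _ h2 with h | h
  · exact sub_eq_zero.1 h
  · exfalso
    refine one_ne_zero ((Groth.L21.RR.bijective_germ_frame hfr hηV).1 (a₁ := (1 : X.functionField)) (a₂ := 0) ?_)
    show (1 : X.functionField) • gη L hηV (rs L hVW a) = (0 : X.functionField) • gη L hηV (rs L hVW a)
    rw [gη_rs, h, smul_zero, smul_zero]

include hd hsep hN hL hb in
/-- The dual basis. -/
theorem exists_dual_basis (hf : f ≫ pr 1 k = X ↘ Spec (CommRingCat.of k)) (ε : Polynomial k) (hε : ε * ε = 1) :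
    ∃ n : Fin r → Γ(N, f ⁻¹ᵁ U k i),
      Function.Bijective (fun c : Fin r → Polynomial k => ∑ l, pol f i (c l) • n l) ∧
      ∀ l m, trη f hdom (c₀.κ (gη N (generic_mem_chart f hdom i).2 (n l))
          (gη L (generic_mem_chart f hdom i).2 (b m))) =
        ιP i (generic_mem_chart f hdom i).1 ((Pi.single l ε : Fin r → Polynomial k) m) := by
  obtain ⟨hiP, hi⟩ := generic_mem_chart f hdom i
  have hex : ∀ l, ∃ s : Γ(N, f ⁻¹ᵁ U k i), ∀ m,
      trη f hdom (c₀.κ (gη N hi s) (gη L hi (b m))) = ιP i hiP ((Pi.single l ε : Fin r → Polynomial k) m) := fun l => by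
    obtain ⟨ν, hν⟩ := exists_generic_dual f hdom hd hsep hN hL c₀ b hb
      fun m => ιP i hiP ((Pi.single l ε : Fin r → Polynomial k) m)
    obtain ⟨s, hs⟩ := exists_section_of_coord f hdom hd hsep hN hL c₀ hf ν fun a => by
      obtain ⟨c, hc⟩ := exists_trη_eq f hdom c₀ b hb ν a
      refine ⟨∑ m, c m * (Pi.single l ε : Fin r → Polynomial k) m, ?_⟩
      rw [hc, map_sum]
      exact Finset.sum_congr rfl fun m _ => by rw [hν, map_mul]
    exact ⟨s, fun m => by rw [hs]; exact hν m⟩
  choose n hn using hex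
  have hsum : ∀ (c : Fin r → Polynomial k) m,
      trη f hdom (c₀.κ (gη N hi (∑ l, pol f i (c l) • n l)) (gη L hi (b m))) = ιP i hiP (c m * ε) := fun c m => by
    rw [gη_sum_pol f n c hi, map_sum, LinearMap.sum_apply, trη_sum]
    simp only [LinearMap.map_smul, LinearMap.smul_apply, smul_eq_mul, trη_pol_mul f hdom i hiP hi, hn, ← map_mul]
    rw [Finset.sum_eq_single m (fun l _ hl => by rw [Pi.single_eq_of_ne (Ne.symm hl), mul_zero, map_zero])
      (fun h => (h (Finset.mem_univ m)).elim), Pi.single_eq_same]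
  refine ⟨n, ⟨fun c c' h => funext fun m => ?_, fun s => ?_⟩, hn⟩
  · haveI : Nonempty (U k i) := ⟨⟨_, hiP⟩⟩
    have hιinj : Function.Injective (ιP i hiP) :=
      (germ_injective_of_isIntegral (P 1 k) _ hiP).comp (φ_bijective k i).1
    have h0 : (∑ l, pol f i (c l) • n l) = ∑ l, pol f i (c' l) • n l := h
    have h1 : c m * ε = c' m * ε := hιinj (by rw [← hsum, ← hsum, h0])
    have h2 := congrArg (· * ε) h1
    simpa only [mul_assoc, hε, mul_one] using h2
  · have h1 : ∀ m, ∃ a : Polynomial k, trη f hdom (c₀.κ (gη N hi s) (gη L hi (b m))) = ιP i hiP a := fun m => by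
      obtain ⟨a, ha⟩ := ((chart_spec f hd hf hdom hsep i).2 (c₀.κ (gη N hi s) (gη L hi (b m)))).2
        ⟨_, (c₀.spec _ hi s (b m)).symm⟩ 1
      rw [map_one, mul_one] at ha
      exact ⟨a, ha⟩
    choose a ha using h1
    refine ⟨fun m => a m * ε, ?_⟩
    refine gη_injective hN hi ?_
    rw [← sub_eq_zero]
    refine eq_zero_of_coord f hdom hd hsep hL c₀ b hb fun m => ?_
    rw [map_sub, LinearMap.sub_apply, sub_eq_add_neg]
    have hadd : ∀ x y, trη f hdom (x + y) = trη f hdom x + trη f hdom y := fun x y => by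
      unfold trη; exact map_add _ _ _
    rw [hadd, trη_neg, ha, hsum, mul_assoc, hε, mul_one, add_neg_cancel]

end Chart

/-- The direct image of a module dual to `L` against the differentials. -/
theorem nonempty_push_iso [Smooth (X ↘ Spec (CommRingCat.of k))] [Flat f]
    (hd : topologicalKrullDim X ≤ 1) (hf : f ≫ pr 1 k = X ↘ Spec (CommRingCat.of k))
    (hsep : letI := (overMap f (genericPoint X) (genericPoint (P 1 k)) hdom).toAlgebra
      Algebra.IsSeparable (P 1 k).functionField X.functionField)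
    {N L : X.Modules} (hN : PicF.IsInvertible N) (hL : PicF.IsInvertible L)
    (e : CohB1.tensorMod N L ≅ Omega.sheaf (X ↘ Spec (CommRingCat.of k))) {r : ℕ} (d : Fin r → ℤ)
    (θ : sumO k d ≅ (Scheme.Modules.pushforward f).obj L) :
    Nonempty (sumO k (fun l => -2 - d l) ≅ (Scheme.Modules.pushforward f).obj N) := by
  classical
  haveI := Groth.L21.RR.isNoetherian_of_proper (X := X) k
  haveI := Groth.L21.RR.isNoetherian_of_proper (X := P 1 k) k
  have hηP := fun i => (generic_mem_chart f hdom i).1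
  have hη := fun i => (generic_mem_chart f hdom i).2
  have h01P : genericPoint (P 1 k) ∈ U01 k := ⟨hηP 0, hηP 1⟩
  have h01 : genericPoint X ∈ f ⁻¹ᵁ U01 k := ⟨hη 0, hη 1⟩
  obtain ⟨μ, hμ, hμ0⟩ := exists_generic_pairing hN hL e
  have hsp := fun i => (chart_spec f hd hf hdom hsep i).1
  let eδ : ∀ i : Fin 2, X.functionField ≃ₗ[X.functionField]
      (Omega.sheaf (X ↘ Spec (CommRingCat.of k))).presheaf.stalk (genericPoint X) := fun i =>
    LinearEquiv.ofBijective (LinearMap.toSpanSingleton _ _ (δ f i (hη i)))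
      ⟨fun a b h => (hsp i (b • δ f i (hη i))).unique h rfl, fun v => (hsp i v).exists⟩
  let cs : ∀ i, Coord f N L e i (hη i) := fun i =>
    { κ := μ.compr₂ (eδ i).symm.toLinearMap
      spec := fun V hV n l => ((eδ i).apply_symm_apply _).trans (hμ V hV n l)
      nondeg := fun a b h => hμ0 a b ((map_eq_zero_iff _ (eδ i).symm.injective).1 h) }
  let w' := γη h01 (lau f (LaurentPolynomial.T 2))
  have hrel : ∀ ν a, (cs 1).κ ν a = -w' * (cs 0).κ ν a := fun ν a => by
    refine (eδ 1).injective ?_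
    show eδ 1 ((eδ 1).symm (μ ν a)) = (-w' * (eδ 0).symm (μ ν a)) • δ f 1 (hη 1)
    rw [(eδ 1).apply_symm_apply, δ_one_eq f hdom, smul_smul]
    have hww : w' * γη h01 (lau f (LaurentPolynomial.T (-2))) = 1 := by
      rw [← map_mul, ← map_mul, ← LaurentPolynomial.T_add, add_neg_cancel, LaurentPolynomial.T_zero, map_one,
        map_one]
    rw [show -w' * (eδ 0).symm (μ ν a) * -γη h01 (lau f (LaurentPolynomial.T (-2))) = (eδ 0).symm (μ ν a) from by
      linear_combination ((eδ 0).symm (μ ν a)) * hww]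
    exact ((eδ 0).apply_symm_apply _).symm
  -- the bases of the direct image of `L`
  let b : ∀ i, Fin r → Γ(L, f ⁻¹ᵁ U k i) := fun i l => θ.hom.app (U k i) (stdBasis k d i l)
  have hb : ∀ i, Function.Bijective fun c : Fin r → Polynomial k => ∑ l, pol f i (c l) • b i l := fun i => by
    have h1 := (ConcreteCategory.bijective_of_isIso (θ.hom.app (U k i))).comp
      (isBasisOn_stdBasis k d i (U k i) le_rfl)
    have e1 : (fun c : Fin r → Polynomial k => ∑ l, pol f i (c l) • b i l) =
        (θ.hom.app (U k i) ∘ lc (sumO k d) (stdBasis k d i) le_rfl) ∘ fun c l => φ k i (c l) := funext fun c => by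
      rw [Function.comp_apply, Function.comp_apply, app_lc]
      simp only [lc, Groth.L18.Frame.rs_self]
      rfl
    rw [e1]
    exact h1.comp ⟨fun c c' h => funext fun l => (φ_bijective k i).1 (congrFun h l),
      fun v => ⟨fun l => ((φ_bijective k i).2 (v l)).choose, funext fun l => ((φ_bijective k i).2 (v l)).choose_spec⟩⟩
  have hβ : ∀ l, gη L (hη 1) (b 1 l) = γη h01 (lau f (LaurentPolynomial.T (d l))) • gη L (hη 0) (b 0 l) := fun l => by
    have h1 : rs L (f.preimage_mono (inf_le_right : U01 k ≤ U k 1)) (b 1 l) =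
        lau f (LaurentPolynomial.T (d l)) • rs L (f.preimage_mono (inf_le_left : U01 k ≤ U k 0)) (b 0 l) := by
      show rs ((Scheme.Modules.pushforward f).obj L) (inf_le_right : U01 k ≤ U k 1)
          (θ.hom.app (U k 1) (stdBasis k d 1 l)) =
        ψ k (LaurentPolynomial.T (d l)) • rs ((Scheme.Modules.pushforward f).obj L)
          (inf_le_left : U01 k ≤ U k 0) (θ.hom.app (U k 0) (stdBasis k d 0 l))
      rw [← app_rs, ← app_rs, stdBasis_transition, Scheme.Modules.Hom.app_smul]
    rw [← gη_rs L (f.preimage_mono (inf_le_right : U01 k ≤ U k 1)) h01 (b 1 l), h1, gη_smul, gη_rs]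
  have hd1 := exists_dual_basis f hdom hd hsep hN hL (cs 1) (b 1) (hb 1) hf (-1) (by ring)
  have hd0 := exists_dual_basis f hdom hd hsep hN hL (cs 0) (b 0) (hb 0) hf 1 (by ring)
  obtain ⟨n1, hbn1, hn1⟩ := hd1
  obtain ⟨n0, hbn0, hn0⟩ := hd0
  have htr : ∀ l, gη N (hη 1) (n1 l) =
      γη h01 (lau f (LaurentPolynomial.T (-2 - d l))) • gη N (hη 0) (n0 l) := fun l => by
    rw [← sub_eq_zero]
    refine eq_zero_of_coord f hdom hd hsep hL (cs 1) (b 1) (hb 1) fun m => ?_
    rw [map_sub, LinearMap.sub_apply, LinearMap.map_smul, LinearMap.smul_apply, smul_eq_mul, hrel (gη N (hη 0) (n0 l)),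
      hβ m, LinearMap.map_smul ((cs 0).κ (gη N (hη 0) (n0 l))), smul_eq_mul]
    have h3 : γη h01 (lau f (LaurentPolynomial.T (-2 - d l))) *
        (-w' * (γη h01 (lau f (LaurentPolynomial.T (d m))) * (cs 0).κ (gη N (hη 0) (n0 l)) (gη L (hη 0) (b 0 m)))) =
        -(γη h01 (f.app (U01 k) (ψ k (LaurentPolynomial.T (d m - d l)))) *
          (cs 0).κ (gη N (hη 0) (n0 l)) (gη L (hη 0) (b 0 m))) := by
      have : LaurentPolynomial.T (R := k) (d m - d l) =
          LaurentPolynomial.T (-2 - d l) * LaurentPolynomial.T 2 * LaurentPolynomial.T (d m) := by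
        rw [← LaurentPolynomial.T_add, ← LaurentPolynomial.T_add]
        congr 1
        ring
      rw [this]
      show _ = -(γη h01 (lau f _) * _)
      simp only [map_mul, w']
      ring
    rw [h3, sub_neg_eq_add]
    have hadd : ∀ x y, trη f hdom (x + y) = trη f hdom x + trη f hdom y := fun x y => by
      unfold trη; exact map_add _ _ _
    rw [hadd, trη_app_mul f hdom (U01 k) h01P h01, ← hβ m, hn1, hn0]
    by_cases hlm : m = l
    · subst hlm
      rw [Pi.single_eq_same, Pi.single_eq_same, sub_self, LaurentPolynomial.T_zero, map_one, map_one, map_one,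
        map_neg, map_one]
      ring
    · rw [Pi.single_eq_of_ne hlm, Pi.single_eq_of_ne hlm, map_zero, map_zero, mul_zero, add_zero]
  have hNf : FlatMod.IsFinLocFree ((Scheme.Modules.pushforward f).obj N) := by
    haveI : LocallyOfFinitePresentation f := inferInstance
    exact Groth.L20.ResDescent.isFinLocFree_push f ⟨inferInstance, inferInstance, inferInstance⟩ N
      (Groth.L16.Existence.isFinLocFree_of_isInvertible hN)
  have hB : ∀ i (n : Fin r → Γ(N, f ⁻¹ᵁ U k i)),
      Function.Bijective (fun c : Fin r → Polynomial k => ∑ l, pol f i (c l) • n l) →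
      IsBasisOn ((Scheme.Modules.pushforward f).obj N) (U k i) n := fun i n hbn => by
    refine bijective_lc_top hNf ?_
    have e1 : (fun c : Fin r → Polynomial k => ∑ l, pol f i (c l) • n l) =
        (fun c : Fin r → Γ(P 1 k, U k i) =>
          ∑ l, c l • (show Γ((Scheme.Modules.pushforward f).obj N, U k i) from n l)) ∘
          fun c l => φ k i (c l) := rfl
    rw [e1] at hbn
    exact (Function.Bijective.of_comp_iff _
      ⟨fun c c' h => funext fun l => (φ_bijective k i).1 (congrFun h l),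
        fun v => ⟨fun l => ((φ_bijective k i).2 (v l)).choose,
          funext fun l => ((φ_bijective k i).2 (v l)).choose_spec⟩⟩).1 hbn
  refine Groth.L21.P1.nonempty_iso_sumO k (fun l => -2 - d l) (E := (Scheme.Modules.pushforward f).obj N)
    (Fin.cons n0 (Fin.cons n1 finZeroElim)) (Fin.forall_fin_two.2 ⟨hB 0 n0 hbn0, hB 1 n1 hbn1⟩) fun l => ?_
  show rs N (f.preimage_mono (inf_le_right : U01 k ≤ U k 1)) (n1 l) =
    lau f (LaurentPolynomial.T (-2 - d l)) • rs N (f.preimage_mono (inf_le_left : U01 k ≤ U k 0)) (n0 l)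
  refine gη_injective hN h01 ?_
  rw [gη_smul, gη_rs, gη_rs]
  exact htr l

end Groth.L21.Duality
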