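import Groth.Agent.L21.Duality.Different
import Mathlib.RingTheory.Etale.Kaehler
import Mathlib.RingTheory.Etale.Field
import Mathlib.RingTheory.Smooth.Kaehler
import Mathlib.RingTheory.Kaehler.TensorProduct
import Mathlib.RingTheory.DedekindDomain.Dvr
import Mathlib.RingTheory.Localization.AsSubring
import Mathlib.LinearAlgebra.Dimension.Constructions

/-!
Differentials of a smooth finite separable algebra over `k[X]` and the trace dual.
-/

set_option autoImplicit false
set_option linter.style.haveILetI false
set_option linter.overlappingInstances false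
set_option backward.isDefEq.respectTransparency false
universe u

open Module IsLocalRing KaehlerDifferential
open scoped nonZeroDivisors TensorProduct

attribute [local instance] FractionRing.liftAlgebra FractionRing.isScalarTower_liftAlgebra

namespace Groth.L21.Duality

variable (k : Type u) [Field k]

variable (F K : Type u) [Field F] [Algebra (Polynomial k) F] [IsFractionRing (Polynomial k) F]
  [Field K] [Algebra k K] [Algebra (Polynomial k) K] [IsScalarTower k (Polynomial k) K]
  [Algebra F K] [IsScalarTower (Polynomial k) F K] [FiniteDimensional F K] [Algebra.IsSeparable F K]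

/-- The coordinate of the line in the function field. -/
noncomputable def dT : Ω[K⁄k] := D k K (algebraMap (Polynomial k) K Polynomial.X)

include F in
theorem formallyEtale_functionField : Algebra.FormallyEtale (Polynomial k) K := by
  haveI : Algebra.FormallyEtale (Polynomial k) F := Algebra.FormallyEtale.of_isLocalization (Polynomial k)⁰
  haveI : Algebra.FormallyEtale F K := Algebra.FormallyEtale.of_isSeparable F K
  exact Algebra.FormallyEtale.comp (Polynomial k) F K

include F in
theorem existsUnique_smul_dT (v : Ω[K⁄k]) : ∃! z : K, z • dT k K = v := by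
  haveI := formallyEtale_functionField k F K
  let e := (KaehlerDifferential.tensorKaehlerEquivOfFormallyEtale k (Polynomial k) K).symm ≪≫ₗ
    LinearEquiv.baseChange (Polynomial k) K (Ω[Polynomial k⁄k]) (Polynomial k) (KaehlerDifferential.polynomialEquiv k) ≪≫ₗ
    TensorProduct.AlgebraTensorModule.rid (Polynomial k) K K
  have he : e (dT k K) = 1 := by
    simp only [e, dT, LinearEquiv.trans_apply, KaehlerDifferential.tensorKaehlerEquivOfFormallyEtale_symm_D_algebraMap]
    simp [LinearEquiv.baseChange]
  refine ⟨e v, e.injective (by rw [map_smul, he, smul_eq_mul, mul_one]), fun z hz => ?_⟩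
  rw [← hz, map_smul, he, smul_eq_mul, mul_one]

variable (B : Type u) [CommRing B] [IsDomain B] [IsDedekindDomain B] [Algebra k B] [Algebra (Polynomial k) B]
  [IsScalarTower k (Polynomial k) B] [Module.Finite (Polynomial k) B] [FaithfulSMul (Polynomial k) B]
  [Algebra B K] [IsFractionRing B K] [IsScalarTower (Polynomial k) B K] [IsScalarTower k B K]
  [Algebra.Smooth k B]

include F in
/-- At a prime: a generator of the differentials, and the different there. -/
theorem exists_local_generator (P : Ideal B) [P.IsMaximal]
    (O : Type u) [CommRing O] [IsDomain O] [IsLocalRing O] [Algebra B O] [IsLocalization.AtPrime O P]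
    [Algebra O K] [IsScalarTower B O K] :
    ∃ (ω : Ω[K⁄k]) (c : O), algebraMap O K c ≠ 0 ∧ dT k K = algebraMap O K c • ω ∧
      (differentIdeal (Polynomial k) B).map (algebraMap B O) = Ideal.span {c} ∧
      (∀ m : Ω[B⁄k], ∃ r : O, map k k B K m = algebraMap O K r • ω) ∧
      (∃ (s : B) (m : Ω[B⁄k]), s ∉ P ∧ map k k B K m = algebraMap B K s • ω) := by
  letI : Algebra k O := ((algebraMap B O).comp (algebraMap k B)).toAlgebra
  letI : Algebra (Polynomial k) O := ((algebraMap B O).comp (algebraMap (Polynomial k) B)).toAlgebra
  haveI : IsScalarTower k B O := IsScalarTower.of_algebraMap_eq' rfl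
  haveI : IsScalarTower (Polynomial k) B O := IsScalarTower.of_algebraMap_eq' rfl
  haveI : IsScalarTower k (Polynomial k) O := IsScalarTower.of_algebraMap_eq fun c => by
    show algebraMap B O (algebraMap k B c) = algebraMap B O (algebraMap (Polynomial k) B (algebraMap k (Polynomial k) c))
    rw [← IsScalarTower.algebraMap_apply k (Polynomial k) B]
  haveI : IsScalarTower k O K := IsScalarTower.of_algebraMap_eq fun c => by
    show algebraMap k K c = algebraMap O K (algebraMap B O (algebraMap k B c))
    rw [← IsScalarTower.algebraMap_apply B O K, ← IsScalarTower.algebraMap_apply k B K]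
  haveI : IsScalarTower (Polynomial k) O K := IsScalarTower.of_algebraMap_eq fun c => by
    show algebraMap (Polynomial k) K c = algebraMap O K (algebraMap B O (algebraMap (Polynomial k) B c))
    rw [← IsScalarTower.algebraMap_apply B O K, ← IsScalarTower.algebraMap_apply (Polynomial k) B K]
  haveI : IsFractionRing O K := IsFractionRing.isFractionRing_of_isDomain_of_isLocalization P.primeCompl O K
  haveI : Algebra.FormallyEtale B O := Algebra.FormallyEtale.of_isLocalization P.primeCompl
  haveI : Algebra.FormallySmooth k O := Algebra.FormallySmooth.comp k B O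
  haveI : Algebra.EssFiniteType B O := Algebra.EssFiniteType.of_isLocalization O P.primeCompl
  haveI : Algebra.EssFiniteType k O := Algebra.EssFiniteType.comp k B O
  haveI : Module.Free O (Ω[O⁄k]) := Module.free_of_flat_of_isLocalRing
  haveI : Algebra.FormallyEtale O K := Algebra.FormallyEtale.of_isLocalization (nonZeroDivisors O)
  have hK1 : Module.finrank K (Ω[K⁄k]) = 1 := by
    refine finrank_eq_one_iff_of_nonzero' (dT k K) (fun h0 => ?_) |>.2 fun w => (existsUnique_smul_dT k F K w).exists
    exact zero_ne_one ((existsUnique_smul_dT k F K (dT k K)).unique (by simp [h0]) (one_smul K _))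
  have hfr : Module.finrank O (Ω[O⁄k]) = 1 := by
    rw [← hK1, ← (KaehlerDifferential.tensorKaehlerEquivOfFormallyEtale k O K).finrank_eq, Module.finrank_baseChange]
  let b := Module.basisUnique Unit hfr
  let ω₀ := b ()
  let μ := map k k O K
  have hgen : ∀ v : Ω[O⁄k], ∃ r : O, v = r • ω₀ := fun v => ⟨b.repr v (), by
    conv_lhs => rw [← b.sum_repr v]
    simp [ω₀]⟩
  obtain ⟨c, hc⟩ := hgen (D k O (algebraMap (Polynomial k) O Polynomial.X))
  have hsm : ∀ (r : O) (v : Ω[O⁄k]), μ (r • v) = algebraMap O K r • μ v := fun r v => by
    rw [LinearMap.map_smul, algebra_compatible_smul K]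
  have hdT : dT k K = algebraMap O K c • μ ω₀ := by
    rw [← hsm, ← hc]
    simp only [μ, map_D, dT, ← IsScalarTower.algebraMap_apply]
  have hc0 : algebraMap O K c ≠ 0 := fun h0 => by
    rw [h0, zero_smul] at hdT
    exact zero_ne_one ((existsUnique_smul_dT k F K (dT k K)).unique (by rw [zero_smul, hdT]) (one_smul K _))
  have hFitt : Fitt.ideal O (Ω[O⁄Polynomial k]) 0 = Ideal.span {c} := by
    let g : O →ₗ[O] Ω[O⁄Polynomial k] :=
      (LinearMap.toSpanSingleton O _ (map k (Polynomial k) O O ω₀))
    have hgs : Function.Surjective g := fun w => by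
      obtain ⟨v, rfl⟩ := KaehlerDifferential.map_surjective k (Polynomial k) O w
      obtain ⟨r, rfl⟩ := hgen v
      exact ⟨r, by rw [map_smul]; rfl⟩
    have hker : ∀ r : O, g r = 0 ↔ c ∣ r := fun r => by
      constructor
      · intro hr
        obtain ⟨y, hy⟩ := (KaehlerDifferential.exact_mapBaseChange_map k (Polynomial k) O (r • ω₀)).1
          (by rw [map_smul]; exact hr)
        obtain ⟨y', rfl⟩ : ∃ y' : O, y = y' ⊗ₜ[Polynomial k] D k (Polynomial k) Polynomial.X := by
          let e := LinearEquiv.baseChange (Polynomial k) O (Ω[Polynomial k⁄k]) (Polynomial k)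
            (KaehlerDifferential.polynomialEquiv k) ≪≫ₗ TensorProduct.AlgebraTensorModule.rid (Polynomial k) O O
          refine ⟨e y, e.injective ?_⟩
          simp [e, LinearEquiv.baseChange]
        rw [mapBaseChange_tmul, map_D, hc, smul_smul] at hy
        refine ⟨y', ?_⟩
        have h1 := congrArg (fun v => b.repr v ()) hy
        simp [ω₀] at h1
        rw [← h1, mul_comm]
      · rintro ⟨y, rfl⟩
        show (c * y) • map k (Polynomial k) O O ω₀ = 0
        rw [mul_comm, mul_smul, ← map_smul, ← map_smul, ← hc, map_smul, map_D]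
        show y • D (Polynomial k) O (algebraMap (Polynomial k) O Polynomial.X) = 0
        rw [Derivation.map_algebraMap, smul_zero]
    have hspan : Submodule.span O (Set.range ![g 1]) = ⊤ := by
      rw [Matrix.range_cons, Matrix.range_empty, Set.union_empty, eq_top_iff]
      intro w _
      obtain ⟨r, rfl⟩ := hgs w
      exact Submodule.mem_span_singleton.2 ⟨r, by rw [← map_smul, smul_eq_mul, mul_one]⟩
    rw [Groth.L01.Disc.Fitt0.ideal_zero_eq _ hspan,
      Groth.L01.Disc.Fitt0.rel0_eq_span_det ![g 1] !![c] (fun i => by
        fin_cases i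
        simp only [Fin.sum_univ_one]
        show c • g 1 = 0
        rw [← map_smul, smul_eq_mul, mul_one, hker])
      (fun w hw => by
        simp only [Fin.sum_univ_one] at hw
        have : g (w 0) = 0 := by
          rw [show w 0 = w 0 • (1 : O) by rw [smul_eq_mul, mul_one], map_smul]
          exact hw
        obtain ⟨y, hy⟩ := (hker _).1 this
        exact ⟨fun _ => y, fun j => by fin_cases j; simp [hy, mul_comm]⟩)]
    simp
  refine ⟨μ ω₀, c, hc0, hdT, ?_, fun m => ?_, ?_⟩
  · haveI : Algebra.IsSeparable (FractionRing (Polynomial k)) (FractionRing B) := by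
      exact Algebra.IsSeparable.of_equiv_equiv (FractionRing.algEquiv (Polynomial k) F).symm.toRingEquiv
        (FractionRing.algEquiv B K).symm.toRingEquiv (by
          refine IsFractionRing.ringHom_ext (A := Polynomial k) (K := F) fun a => ?_
          simp only [RingHom.comp_apply, RingHom.coe_coe, AlgEquiv.coe_ringEquiv, AlgEquiv.commutes,
            ← IsScalarTower.algebraMap_apply (Polynomial k) F K]
          rw [IsScalarTower.algebraMap_apply (Polynomial k) B K, AlgEquiv.commutes,
            ← IsScalarTower.algebraMap_apply (Polynomial k) B (FractionRing B),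
            ← IsScalarTower.algebraMap_apply (Polynomial k) (FractionRing (Polynomial k)) (FractionRing B)])
    rw [← fitt_kaehler_eq_differentIdeal, ← Groth.L01.Disc.Fitt0.ideal_zero_map P.primeCompl O
      (KaehlerDifferential.map (Polynomial k) (Polynomial k) B O), hFitt]
  · obtain ⟨r, hr⟩ := hgen (map k k B O m)
    refine ⟨r, ?_⟩
    rw [← hsm, ← hr]
    exact congrArg (fun l : Ω[B⁄k] →ₗ[B] Ω[K⁄k] => l m) (Derivation.liftKaehlerDifferential_unique _ _
      (Derivation.ext fun a => by simp [μ, ← IsScalarTower.algebraMap_apply]) :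
        map k k B K = (μ.restrictScalars B).comp (map k k B O))
  · obtain ⟨⟨m, s⟩, hs⟩ := IsLocalizedModule.surj P.primeCompl (map k k B O) ω₀
    refine ⟨s.1, m, s.2, ?_⟩
    have h1 := congrArg μ hs
    simp only [Submonoid.smul_def] at h1
    rw [algebra_compatible_smul O (s : B) ω₀, hsm, ← IsScalarTower.algebraMap_apply] at h1
    rw [h1]
    exact congrArg (fun l : Ω[B⁄k] →ₗ[B] Ω[K⁄k] => l m) (Derivation.liftKaehlerDifferential_unique _ _
      (Derivation.ext fun a => by simp [μ, ← IsScalarTower.algebraMap_apply]) :
        map k k B K = (μ.restrictScalars B).comp (map k k B O))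

include F in
/-- The differentials of `B` are the trace dual, in the coordinate `dX`. -/
theorem mem_traceDual_iff (z : K) :
    z ∈ Submodule.traceDual (Polynomial k) F (1 : Submodule B K) ↔
      ∃ m : Ω[B⁄k], map k k B K m = z • dT k K := by
  haveI : Algebra.IsSeparable (FractionRing (Polynomial k)) (FractionRing B) := by
    exact Algebra.IsSeparable.of_equiv_equiv (FractionRing.algEquiv (Polynomial k) F).symm.toRingEquiv
      (FractionRing.algEquiv B K).symm.toRingEquiv (by
        refine IsFractionRing.ringHom_ext (A := Polynomial k) (K := F) fun a => ?_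
        simp only [RingHom.comp_apply, RingHom.coe_coe, AlgEquiv.coe_ringEquiv, AlgEquiv.commutes,
          ← IsScalarTower.algebraMap_apply (Polynomial k) F K]
        rw [IsScalarTower.algebraMap_apply (Polynomial k) B K, AlgEquiv.commutes,
          ← IsScalarTower.algebraMap_apply (Polynomial k) B (FractionRing B),
          ← IsScalarTower.algebraMap_apply (Polynomial k) (FractionRing (Polynomial k)) (FractionRing B)])
  have hdual : ∀ z : K, z ∈ Submodule.traceDual (Polynomial k) F (1 : Submodule B K) ↔
      ∀ d ∈ differentIdeal (Polynomial k) B, z * algebraMap B K d ∈ (1 : Submodule B K) := fun z => by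
    have hne : FractionalIdeal.dual (Polynomial k) F (1 : FractionalIdeal B⁰ K) ≠ 0 :=
      FractionalIdeal.dual_ne_zero (Polynomial k) F one_ne_zero
    rw [← FractionalIdeal.coe_dual_one, FractionalIdeal.mem_coe,
      ← inv_inv (FractionalIdeal.dual (Polynomial k) F (1 : FractionalIdeal B⁰ K)),
      ← coeIdeal_differentIdeal (Polynomial k) F K B, FractionalIdeal.mem_inv_iff (by
        rw [coeIdeal_differentIdeal (Polynomial k) F K B]; exact inv_ne_zero hne)]
    constructor
    · intro h d hd
      obtain ⟨c, hc⟩ := (FractionalIdeal.mem_one_iff B⁰).1 (h _ (FractionalIdeal.mem_coeIdeal_of_mem B⁰ hd))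
      exact Submodule.mem_one.2 ⟨c, hc⟩
    · intro h y hy
      obtain ⟨d, hd, rfl⟩ := (FractionalIdeal.mem_coeIdeal B⁰).1 hy
      obtain ⟨c, hc⟩ := Submodule.mem_one.1 (h d hd)
      exact (FractionalIdeal.mem_one_iff B⁰).2 ⟨c, hc⟩
  rw [hdual]
  constructor
  · intro hz
    let I : Ideal B := Submodule.comap ((LinearMap.toSpanSingleton B _ (z • dT k K))) (LinearMap.range (map k k B K))
    suffices h : (1 : B) ∈ I by
      obtain ⟨m, hm⟩ := h
      exact ⟨m, hm.trans (one_smul B _)⟩
    rw [← Ideal.eq_top_iff_one]
    by_contra hI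
    obtain ⟨P, hP, hIP⟩ := Ideal.exists_le_maximal I hI
    let O := Localization.subalgebra.ofField K P.primeCompl P.primeCompl_le_nonZeroDivisors
    haveI : IsLocalization.AtPrime O P := Localization.subalgebra.isLocalization_ofField K P.primeCompl _
    haveI : IsLocalRing O := IsLocalization.AtPrime.isLocalRing O P
    obtain ⟨ω, c, -, hdT, hD, -, s, m, hs, hm⟩ := exists_local_generator k F K B P O
    have hrange : ∀ e ∈ (differentIdeal (Polynomial k) B).map (algebraMap B O),
        ∃ r : O, z * algebraMap O K e = algebraMap O K r := by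
      intro e he
      induction he using Submodule.span_induction with
      | mem x hx =>
        obtain ⟨d, hd, rfl⟩ := hx
        obtain ⟨b, hb⟩ := Submodule.mem_one.1 (hz d hd)
        exact ⟨algebraMap B O b, by
          rw [← IsScalarTower.algebraMap_apply, ← IsScalarTower.algebraMap_apply, hb]⟩
      | zero => exact ⟨0, by simp⟩
      | add x y _ _ hx hy =>
        obtain ⟨r, hr⟩ := hx
        obtain ⟨r', hr'⟩ := hy
        exact ⟨r + r', by rw [map_add, map_add, mul_add, hr, hr']⟩
      | smul a x _ hx =>
        obtain ⟨r, hr⟩ := hx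
        exact ⟨a * r, by rw [smul_eq_mul, map_mul, map_mul, mul_left_comm, hr]⟩
    obtain ⟨r, hr⟩ := hrange c (hD ▸ Ideal.subset_span rfl)
    obtain ⟨⟨n, t⟩, ht⟩ := IsLocalization.surj P.primeCompl r
    dsimp only at ht
    have ht' : algebraMap O K r * algebraMap B K t = algebraMap B K n := by
      rw [IsScalarTower.algebraMap_apply B O K (t : B), ← map_mul, ht, ← IsScalarTower.algebraMap_apply]
    have hmem : (s * t : B) ∈ I := ⟨n • m, by
      rw [map_smul, hm, LinearMap.toSpanSingleton_apply, hdT, smul_smul, hr,
        algebra_compatible_smul K (s * (t : B)), smul_smul, algebra_compatible_smul K n, smul_smul, map_mul,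
        ← ht']
      congr 1
      ring⟩
    exact (hP.isPrime.mem_or_mem (hIP hmem)).elim hs t.2
  · rintro ⟨m, hm⟩ d hd
    let I : Ideal B := Submodule.comap ((LinearMap.toSpanSingleton B K (z * algebraMap B K d))) 1
    suffices h : (1 : B) ∈ I by
      have h' : (1 : B) • (z * algebraMap B K d) ∈ (1 : Submodule B K) := h
      rwa [one_smul] at h'
    rw [← Ideal.eq_top_iff_one]
    by_contra hI
    obtain ⟨P, hP, hIP⟩ := Ideal.exists_le_maximal I hI
    let O := Localization.subalgebra.ofField K P.primeCompl P.primeCompl_le_nonZeroDivisors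
    haveI : IsLocalization.AtPrime O P := Localization.subalgebra.isLocalization_ofField K P.primeCompl _
    haveI : IsLocalRing O := IsLocalization.AtPrime.isLocalRing O P
    obtain ⟨ω, c, hc0, hdT, hD, hall, -⟩ := exists_local_generator k F K B P O
    have hω : ω ≠ 0 := fun h0 => by
      rw [h0, smul_zero] at hdT
      exact zero_ne_one ((existsUnique_smul_dT k F K (dT k K)).unique (by rw [zero_smul, hdT]) (one_smul K _))
    obtain ⟨r, hr⟩ := hall m
    rw [hr, hdT, smul_smul] at hm
    have hzc : algebraMap O K r = z * algebraMap O K c := smul_left_injective K hω hm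
    obtain ⟨e, he⟩ := Ideal.mem_span_singleton'.1 (hD ▸ Ideal.mem_map_of_mem (algebraMap B O) hd :
      algebraMap B O d ∈ Ideal.span {c})
    obtain ⟨⟨n, t⟩, ht⟩ := IsLocalization.surj P.primeCompl (e * r)
    dsimp only at ht
    have hmem : (t : B) ∈ I := Submodule.mem_one.2 ⟨n, by
      rw [LinearMap.toSpanSingleton_apply, Algebra.smul_def, IsScalarTower.algebraMap_apply B O K n, ← ht, map_mul,
        map_mul, hzc, IsScalarTower.algebraMap_apply B O K d, ← he, map_mul, ← IsScalarTower.algebraMap_apply]
      ring⟩
    exact t.2 (hIP hmem)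

end Groth.L21.Duality
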