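import Groth.Agent.L21.Duality.Algebra
import Groth.Agent.L21.Duality.Generic
import Groth.Agent.L21.P1.FuncField
import Groth.Agent.L19.OmegaSh.OmAff
import Groth.Agent.L19.OmegaSh.DiagPoint
import Groth.Agent.L15.OmegaCoh
import Groth.Prelude.Def_OmAff

/-!
Differentials on the two charts of a separable cover of the projective line.
-/

set_option autoImplicit false
set_option backward.isDefEq.respectTransparency false
set_option linter.style.haveILetI false
set_option maxHeartbeats 1000000
universe u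

open CategoryTheory AlgebraicGeometry TopologicalSpace Opposite
open scoped nonZeroDivisors

noncomputable section

namespace Groth.L21.Duality

open Groth.L18.PUP (P pr)
open Groth.L18.Frame (rs ro)
open Groth.L21.P1 (U U01 φ pol φ_bijective φ_C app_res)
open Groth.L21.Disc (overMap overMap_germ)

variable {k : Type u} [Field k] {X : Scheme.{u}} [X.Over (Spec (CommRingCat.of k))]
  [IsProper (X ↘ Spec (CommRingCat.of k))] [IsIntegral X] (f : X ⟶ P 1 k) [IsFinite f]

/-- The differential of the coordinate of a chart, in the generic stalk. -/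
def δ (i : Fin 2) (hi : genericPoint X ∈ f ⁻¹ᵁ U k i) :
    (Omega.sheaf (X ↘ Spec (CommRingCat.of k))).presheaf.stalk (genericPoint X) :=
  gη (Omega.sheaf (X ↘ Spec (CommRingCat.of k))) hi
    (OmegaSh.dSect (X ↘ Spec (CommRingCat.of k)) (f ⁻¹ᵁ U k i) (pol f i Polynomial.X))

omit [X.Over (Spec (CommRingCat.of k))] [IsProper (X ↘ Spec (CommRingCat.of k))] [IsFinite f] in
theorem generic_mem_chart (hdom : f (genericPoint X) = genericPoint (P 1 k)) (i : Fin 2) :
    genericPoint (P 1 k) ∈ U k i ∧ genericPoint X ∈ f ⁻¹ᵁ U k i := by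
  have hne : Nonempty (U k i) := by
    by_contra h
    rw [not_nonempty_iff] at h
    haveI : Subsingleton Γ(P 1 k, U k i) := subsingleton_of_forall_eq 0 fun z =>
      TopCat.Presheaf.section_ext (P 1 k).sheaf _ z 0 fun x hx => (h.false ⟨x, hx⟩).elim
    exact zero_ne_one (α := Polynomial k) ((φ_bijective k i).1 (Subsingleton.elim _ _))
  obtain ⟨⟨x₀, hx₀⟩⟩ := hne
  have h : genericPoint (P 1 k) ∈ U k i := generic_mem hx₀
  exact ⟨h, show f (genericPoint X) ∈ U k i from hdom.symm ▸ h⟩

/-- The generic germ of the polynomial ring of a chart. -/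
def ιP (i : Fin 2) (hi : genericPoint (P 1 k) ∈ U k i) : Polynomial k →+* (P 1 k).functionField :=
  (γη hi).comp (φ k i)

/-- On a chart: the coordinate differential spans the generic stalk, and the sections are the trace dual. -/
theorem chart_spec [Smooth (X ↘ Spec (CommRingCat.of k))] (hd : topologicalKrullDim X ≤ 1)
    (hf : f ≫ pr 1 k = X ↘ Spec (CommRingCat.of k)) (hdom : f (genericPoint X) = genericPoint (P 1 k))
    (hsep : letI := (overMap f (genericPoint X) (genericPoint (P 1 k)) hdom).toAlgebra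
      Algebra.IsSeparable (P 1 k).functionField X.functionField) (i : Fin 2) :
    (∀ v, ∃! z : X.functionField, z • δ f i (generic_mem_chart f hdom i).2 = v) ∧
    ∀ z : X.functionField,
      (∀ b : Γ(X, f ⁻¹ᵁ U k i), ∃ a : Polynomial k,
          (letI := (overMap f (genericPoint X) (genericPoint (P 1 k)) hdom).toAlgebra;
            Algebra.trace (P 1 k).functionField X.functionField (z * γη (generic_mem_chart f hdom i).2 b)) =
          ιP i (generic_mem_chart f hdom i).1 a) ↔
      ∃ s : Γ(Omega.sheaf (X ↘ Spec (CommRingCat.of k)), f ⁻¹ᵁ U k i),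
        gη (Omega.sheaf (X ↘ Spec (CommRingCat.of k))) (generic_mem_chart f hdom i).2 s =
          z • δ f i (generic_mem_chart f hdom i).2 := by
  classical
  haveI := Groth.L21.RR.isNoetherian_of_proper (X := X) k
  set p := X ↘ Spec (CommRingCat.of k)
  obtain ⟨hiP, hi⟩ := generic_mem_chart f hdom i
  set W := f ⁻¹ᵁ U k i
  have hU : IsAffineOpen (U k i) := Proj.isAffineOpen_basicOpen _ _ (Groth.L18.PS.X_mem 1 i) one_pos
  have hW : IsAffineOpen W := hU.preimage f
  haveI : Nonempty W := ⟨⟨_, hi⟩⟩
  haveI : Nonempty (U k i) := ⟨⟨_, hiP⟩⟩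
  haveI := functionField_isFractionRing_of_isAffineOpen X W hW
  haveI := functionField_isFractionRing_of_isAffineOpen (P 1 k) (U k i) hU
  -- the base field
  let α := (p.appLE ⊤ W (by simp)).hom.comp (Scheme.ΓSpecIso (CommRingCat.of k)).inv.hom
  have hα : α.Smooth := by
    have h := HasRingHomProperty.appLE (@Smooth) p inferInstance ⟨⊤, isAffineOpen_top _⟩ ⟨_, hW⟩ (by simp)
    exact (RingHom.Smooth.respectsIso.2 _ (Scheme.ΓSpecIso (CommRingCat.of k)).symm.commRingCatIsoToRingEquiv h)
  letI : Algebra k Γ(X, W) := α.toAlgebra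
  haveI : Algebra.Smooth k Γ(X, W) := hα
  letI : Algebra (Polynomial k) Γ(X, W) := (pol f i).toAlgebra
  haveI : IsScalarTower k (Polynomial k) Γ(X, W) := IsScalarTower.of_algebraMap_eq fun c => by
    show α c = f.app (U k i) (φ k i (Polynomial.C c))
    rw [φ_C]
    refine Eq.trans ?_ (app_res f le_top (ProjUP.toGlobal (pr 1 k) c))
    simp only [α, p, ← hf]
    rfl
  -- the function fields
  letI algFK := (overMap f (genericPoint X) (genericPoint (P 1 k)) hdom).toAlgebra
  haveI := hsep
  letI : Algebra (Polynomial k) (P 1 k).functionField := (ιP i hiP).toAlgebra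
  haveI : FaithfulSMul (Polynomial k) (P 1 k).functionField := by
    refine (faithfulSMul_iff_algebraMap_injective _ _).2 ?_
    exact (germ_injective_of_isIntegral (P 1 k) _ hiP).comp (φ_bijective k i).1
  haveI : IsFractionRing (Polynomial k) (P 1 k).functionField := IsFractionRing.of_field _ _ fun z => by
    obtain ⟨x, y, -, hz⟩ := IsFractionRing.div_surjective (A := Γ(P 1 k, U k i)) z
    obtain ⟨x', rfl⟩ := (φ_bijective k i).2 x
    obtain ⟨y', rfl⟩ := (φ_bijective k i).2 y
    exact ⟨x', y', hz.symm⟩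
  letI : Algebra k X.functionField := ((γη hi).comp α).toAlgebra
  letI : Algebra (Polynomial k) X.functionField := ((γη hi).comp (pol f i)).toAlgebra
  haveI : IsScalarTower (Polynomial k) Γ(X, W) X.functionField := IsScalarTower.of_algebraMap_eq' rfl
  haveI : IsScalarTower k Γ(X, W) X.functionField := IsScalarTower.of_algebraMap_eq' rfl
  haveI : IsScalarTower k (Polynomial k) X.functionField := IsScalarTower.of_algebraMap_eq fun c =>
    congrArg (γη hi) (IsScalarTower.algebraMap_apply k (Polynomial k) Γ(X, W) c)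
  haveI : IsScalarTower (Polynomial k) (P 1 k).functionField X.functionField :=
    IsScalarTower.of_algebraMap_eq fun a =>
      (overMap_germ f (genericPoint X) (genericPoint (P 1 k)) hdom (U k i) hiP (φ k i a)).symm
  haveI : FaithfulSMul (Polynomial k) Γ(X, W) := by
    refine (faithfulSMul_iff_algebraMap_injective _ _).2 fun a b hab => ?_
    refine FaithfulSMul.algebraMap_injective (Polynomial k) (P 1 k).functionField
      ((algebraMap (P 1 k).functionField X.functionField).injective ?_)
    rw [← IsScalarTower.algebraMap_apply, ← IsScalarTower.algebraMap_apply]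
    exact congrArg (γη hi) hab
  haveI : Module.Finite (Polynomial k) Γ(X, W) := by
    show RingHom.Finite ((f.app (U k i)).hom.comp (φ k i))
    exact RingHom.Finite.comp (f.finite_app (U k i) hU) (RingHom.Finite.of_surjective _ (φ_bijective k i).2)
  haveI : IsDedekindDomain Γ(X, W) := Groth.L21.isDedekindDomain_of_normal hd (fun x =>
    ⟨Groth.L21.Smooth.isDomain_stalk p x, Groth.L21.Smooth.isIntegrallyClosed_stalk p x⟩) hW
  haveI : FiniteDimensional (P 1 k).functionField X.functionField :=
    .of_isLocalization (Polynomial k) Γ(X, W) (Polynomial k)⁰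
  -- the differentials of the chart as sections
  let ω := Omega.sheaf p
  letI : Module k Γ(ω, W) := Module.compHom _ α
  haveI : IsScalarTower k Γ(X, W) Γ(ω, W) := IsScalarTower.of_compHom _ _ _
  let D : Derivation k Γ(X, W) Γ(ω, W) := Derivation.mk'
    { toFun := fun b => OmegaSh.dSect p W b
      map_add' := fun a b => OmegaSh.dSect_add p W a b
      map_smul' := fun c b => by
        show OmegaSh.dSect p W (α c * b) = α c • OmegaSh.dSect p W b
        rw [OmegaSh.dSect_mul, show OmegaSh.dSect p W (α c) = 0 from OmAff.dSect_appLE p ⊤ W _ _, smul_zero, add_zero] }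
    fun a b => OmegaSh.dSect_mul p W a b
  let θ := D.liftKaehlerDifferential
  have hθD : ∀ b, θ (KaehlerDifferential.D k Γ(X, W) b) = OmegaSh.dSect p W b :=
    fun b => D.liftKaehlerDifferential_comp_D b
  have hθs : Function.Surjective θ := by
    intro s
    have hWle : W ≤ p ⁻¹ᵁ ⊤ := le_top
    letI : Algebra Γ(Spec (CommRingCat.of k), ⊤) Γ(X, W) := (p.appLE ⊤ W hWle).hom.toAlgebra
    haveI := Groth.L19.OmegaSh.isIso_toSect p ⟨W, hW⟩ ⟨⊤, isAffineOpen_top _⟩ hWle
    obtain ⟨t, rfl⟩ := (ConcreteCategory.bijective_of_isIso (OmAff.toSect p ⊤ W hWle)).2 s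
    have ht : t ∈ Submodule.span Γ(X, W) (Set.range (KaehlerDifferential.D Γ(Spec (CommRingCat.of k), ⊤) Γ(X, W))) := by
      rw [KaehlerDifferential.span_range_derivation]; trivial
    induction ht using Submodule.span_induction with
    | mem y hy =>
      obtain ⟨b, rfl⟩ := hy
      exact ⟨KaehlerDifferential.D k Γ(X, W) b, (hθD b).trans (OmAff.toSect_d p ⊤ W hWle b).symm⟩
    | zero => exact ⟨0, (map_zero θ).trans (map_zero (OmAff.toSect p ⊤ W hWle).hom).symm⟩
    | add x y _ _ hx hy =>
      obtain ⟨a, ha⟩ := hx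
      obtain ⟨b, hb⟩ := hy
      exact ⟨a + b, by rw [map_add, ha, hb]; exact (map_add (OmAff.toSect p ⊤ W hWle).hom x y).symm⟩
    | smul c x _ hx =>
      obtain ⟨a, ha⟩ := hx
      exact ⟨c • a, by rw [map_smul, ha]; exact ((OmAff.toSect p ⊤ W hWle).hom.map_smul c x).symm⟩
  have hθi : Function.Injective θ := by
    have hWle : W ≤ p ⁻¹ᵁ ⊤ := le_top
    letI : Algebra Γ(Spec (CommRingCat.of k), ⊤) Γ(X, W) := (p.appLE ⊤ W hWle).hom.toAlgebra
    haveI := Groth.L19.OmegaSh.isIso_toSect p ⟨W, hW⟩ ⟨⊤, isAffineOpen_top _⟩ hWle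
    letI : Module Γ(Spec (CommRingCat.of k), ⊤) Ω[Γ(X, W)⁄k] := Module.compHom _ (p.appLE ⊤ W hWle).hom
    haveI : IsScalarTower Γ(Spec (CommRingCat.of k), ⊤) Γ(X, W) Ω[Γ(X, W)⁄k] := IsScalarTower.of_compHom _ _ _
    let D' : Derivation Γ(Spec (CommRingCat.of k), ⊤) Γ(X, W) Ω[Γ(X, W)⁄k] := Derivation.mk'
      { toFun := fun b => KaehlerDifferential.D k Γ(X, W) b
        map_add' := map_add _
        map_smul' := fun c b => by
          obtain ⟨c, rfl⟩ := (Scheme.ΓSpecIso (CommRingCat.of k)).symm.commRingCatIsoToRingEquiv.surjective c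
          show KaehlerDifferential.D k Γ(X, W) (α c * b) = α c • KaehlerDifferential.D k Γ(X, W) b
          rw [Derivation.leibniz, show KaehlerDifferential.D k Γ(X, W) (α c) = 0 from Derivation.map_algebraMap _ c,
            smul_zero, add_zero] }
      fun a b => (KaehlerDifferential.D k Γ(X, W)).leibniz a b
    let ψ := D'.liftKaehlerDifferential
    haveI hb := ConcreteCategory.bijective_of_isIso (OmAff.toSect p ⊤ W hWle)
    let eT := LinearEquiv.ofBijective (OmAff.toSect p ⊤ W hWle).hom hb
    have hinv : ψ.comp (eT.symm.toLinearMap.comp θ) = LinearMap.id := by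
      refine Derivation.liftKaehlerDifferential_unique _ _ (Derivation.ext fun b => ?_)
      show ψ (eT.symm (θ (KaehlerDifferential.D k Γ(X, W) b))) = KaehlerDifferential.D k Γ(X, W) b
      rw [hθD, show eT.symm (OmegaSh.dSect p W b) = KaehlerDifferential.D Γ(Spec (CommRingCat.of k), ⊤) Γ(X, W) b from
        (LinearEquiv.symm_apply_eq eT).2 (OmAff.toSect_d p ⊤ W hWle b).symm]
      exact D'.liftKaehlerDifferential_comp_D b
    exact Function.LeftInverse.injective (g := fun s => ψ (eT.symm s)) fun m => LinearMap.congr_fun hinv m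
  -- the generic comparison
  letI := Groth.L20.ModStalk.stalkModule ω hi
  haveI : IsScalarTower Γ(X, W) X.functionField (ω.presheaf.stalk (genericPoint X)) :=
    IsScalarTower.of_algebraMap_smul fun r m => rfl
  haveI : Coh.IsQCoh ω := (Groth.L15.OmegaCoh.isCoh_omega p).1
  let G : Ω[Γ(X, W)⁄k] →ₗ[Γ(X, W)] ω.presheaf.stalk (genericPoint X) :=
    (Groth.L20.ModStalk.germₗ ω hi).comp θ
  have hunit : ∀ x : Γ(X, W)⁰, IsUnit ((algebraMap Γ(X, W)
      (Module.End Γ(X, W) (ω.presheaf.stalk (genericPoint X)))) x) := fun x => by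
    obtain ⟨w, hw⟩ := (IsLocalization.map_units X.functionField x).exists_left_inv
    rw [Module.End.isUnit_iff]
    refine Function.bijective_iff_has_inverse.2 ⟨fun m => w • m, fun m => ?_, fun m => ?_⟩
    · show w • ((x : Γ(X, W)) • m) = m
      rw [← algebraMap_smul X.functionField (x : Γ(X, W)) m, smul_smul, hw, one_smul]
    · show (x : Γ(X, W)) • (w • m) = m
      rw [← algebraMap_smul X.functionField (x : Γ(X, W)) (w • m), smul_smul, mul_comm, hw, one_smul]
  let Θ₀ := IsLocalizedModule.lift Γ(X, W)⁰ (KaehlerDifferential.map k k Γ(X, W) X.functionField) G hunit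
  let Θ := Θ₀.extendScalarsOfIsLocalization Γ(X, W)⁰ X.functionField
  have hΘ : ∀ m, Θ (KaehlerDifferential.map k k Γ(X, W) X.functionField m) = gη ω hi (θ m) := fun m =>
    IsLocalizedModule.lift_apply Γ(X, W)⁰ (KaehlerDifferential.map k k Γ(X, W) X.functionField) G hunit m
  have hΘs : Function.Surjective Θ := fun v => by
    haveI hloc := Groth.L20.ModStalk.isLocalizedModule_germ ω hW hi
    obtain ⟨⟨s, t⟩, hst⟩ := IsLocalizedModule.surj (hW.primeIdealOf ⟨genericPoint X, hi⟩).asIdeal.primeCompl
      (Groth.L20.ModStalk.germₗ ω hi) v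
    obtain ⟨m, rfl⟩ := hθs s
    have ht0 : algebraMap Γ(X, W) X.functionField t.1 ≠ 0 :=
      (map_ne_zero_iff _ (IsFractionRing.injective Γ(X, W) X.functionField)).2 fun h0 => t.2 (h0 ▸ zero_mem _)
    refine ⟨(algebraMap Γ(X, W) X.functionField t.1)⁻¹ •
      KaehlerDifferential.map k k Γ(X, W) X.functionField m, ?_⟩
    rw [map_smul, hΘ, inv_smul_eq_iff₀ ht0, algebraMap_smul]
    exact hst.symm
  have hΘdT : Θ (dT k X.functionField) = δ f i hi := by
    have e : dT k X.functionField = KaehlerDifferential.map k k Γ(X, W) X.functionField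
        (KaehlerDifferential.D k Γ(X, W) (algebraMap (Polynomial k) Γ(X, W) Polynomial.X)) := by
      rw [KaehlerDifferential.map_D, dT, ← IsScalarTower.algebraMap_apply]
    rw [e, hΘ, hθD]
    rfl
  have hΘi : Function.Injective Θ := (injective_iff_map_eq_zero Θ).2 fun w hw => by
    obtain ⟨⟨m, t⟩, hmt⟩ := IsLocalizedModule.surj Γ(X, W)⁰ (KaehlerDifferential.map k k Γ(X, W) X.functionField) w
    have h0 : gη ω hi (θ m) = 0 := by
      rw [← hΘ, ← hmt]
      show Θ ((t : Γ(X, W)) • w) = 0
      rw [← algebraMap_smul X.functionField (t : Γ(X, W)) w, map_smul, hw, smul_zero]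
    haveI hloc := Groth.L20.ModStalk.isLocalizedModule_germ ω hW hi
    obtain ⟨t', ht'⟩ := IsLocalizedModule.exists_of_eq (S := (hW.primeIdealOf ⟨genericPoint X, hi⟩).asIdeal.primeCompl)
      (f := Groth.L20.ModStalk.germₗ ω hi) (x₁ := θ m) (x₂ := 0) (h0.trans (map_zero _).symm)
    rw [smul_zero, Submonoid.smul_def, ← map_smul, map_eq_zero_iff θ hθi] at ht'
    have hne : ∀ u : Γ(X, W), u ≠ 0 → algebraMap Γ(X, W) X.functionField u ≠ 0 := fun u hu =>
      (map_ne_zero_iff _ (IsFractionRing.injective Γ(X, W) X.functionField)).2 hu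
    have h1 := congrArg (KaehlerDifferential.map k k Γ(X, W) X.functionField) ht'
    rw [map_smul, ← hmt, map_zero] at h1
    change (t' : Γ(X, W)) • (t : Γ(X, W)) • w = 0 at h1
    rw [← algebraMap_smul X.functionField (t' : Γ(X, W)), ← algebraMap_smul X.functionField (t : Γ(X, W))] at h1
    refine (smul_eq_zero.1 ((smul_eq_zero.1 h1).resolve_left
      (hne _ fun h => t'.2 (h ▸ zero_mem _)))).resolve_left (hne _ (nonZeroDivisors.ne_zero t.2))
  refine ⟨fun v => ?_, fun z => ?_⟩
  · obtain ⟨w, rfl⟩ := hΘs v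
    obtain ⟨z, rfl, huniq⟩ := existsUnique_smul_dT k (P 1 k).functionField X.functionField w
    refine ⟨z, (map_smul Θ z _).trans (congrArg (z • ·) hΘdT) |>.symm, fun z' hz' => huniq z' (hΘi ?_)⟩
    rw [map_smul, hΘdT]
    exact hz'
  · have key : (∀ b : Γ(X, W), ∃ a : Polynomial k,
        Algebra.trace (P 1 k).functionField X.functionField (z * γη hi b) = ιP i hiP a) ↔
        z ∈ Submodule.traceDual (Polynomial k) (P 1 k).functionField (1 : Submodule Γ(X, W) X.functionField) := by
      rw [Submodule.mem_traceDual]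
      constructor
      · intro h a ha
        obtain ⟨b, rfl⟩ := Submodule.mem_one.1 ha
        obtain ⟨c, hc⟩ := h b
        exact ⟨c, hc.symm⟩
      · intro h b
        obtain ⟨c, hc⟩ := h _ (Submodule.mem_one.2 ⟨b, rfl⟩)
        exact ⟨c, hc.symm⟩
    rw [key, mem_traceDual_iff k (P 1 k).functionField X.functionField Γ(X, W) z]
    constructor
    · rintro ⟨m, hm⟩
      exact ⟨θ m, by rw [← hΘ, hm, map_smul, hΘdT]⟩
    · rintro ⟨s, hs⟩
      obtain ⟨m, rfl⟩ := hθs s
      refine ⟨m, hΘi ?_⟩
      rw [hΘ, hs, map_smul, hΘdT]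

end Groth.L21.Duality
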