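import Groth.Agent.L21.Disc.LocalAlg
import Groth.Agent.L01.Disc.Syntomic
import Groth.Agent.L01.Disc.Fitt0
import Groth.Agent.L07.RegularLCI
import Groth.Agent.L07.SyntLCI
import Mathlib.LinearAlgebra.FreeModule.PID
import Mathlib.LinearAlgebra.Matrix.ToLinearEquiv
import Mathlib.RingTheory.Kaehler.Polynomial

/-!
The Kähler different of a finite separable extension of a principal ideal domain is the different.
-/

set_option autoImplicit false
set_option linter.style.haveILetI false
set_option linter.overlappingInstances false
universe u v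

open Module IsLocalRing UniqueFactorizationMonoid KaehlerDifferential
open scoped nonZeroDivisors

namespace Groth.L21.Duality

attribute [local instance] FractionRing.liftAlgebra FractionRing.isScalarTower_liftAlgebra

variable (A B : Type u) [CommRing A] [IsDomain A] [IsPrincipalIdealRing A] [CommRing B] [IsDomain B]
  [IsDedekindDomain B] [Algebra A B] [Module.Finite A B] [FaithfulSMul A B]
  [Algebra.IsSeparable (FractionRing A) (FractionRing B)]

/-- The different as the set of elements dividing all dual forms. -/
theorem differentSet_eq_differentIdeal :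
    Disc.differentSet A B = (differentIdeal A B : Set B) := by
  classical
  let K := FractionRing A
  let L := FractionRing B
  haveI : IsLocalization (Algebra.algebraMapSubmonoid B A⁰) L := IsIntegralClosure.isLocalization _ K _ _
  haveI : FiniteDimensional K L := .of_isLocalization A B A⁰
  haveI : Module.Free A B := Module.free_of_finite_type_torsion_free'
  have hne : FractionalIdeal.dual A K (1 : FractionalIdeal B⁰ L) ≠ 0 := FractionalIdeal.dual_ne_zero A K one_ne_zero
  have hD : ∀ b : B, b ∈ differentIdeal A B ↔
      ∀ z ∈ Submodule.traceDual A K (1 : Submodule B L), algebraMap B L b * z ∈ (1 : Submodule B L) := fun b => by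
    have h1 : b ∈ differentIdeal A B ↔ algebraMap B L b ∈ ((differentIdeal A B : Ideal B) : FractionalIdeal B⁰ L) := by
      rw [FractionalIdeal.mem_coeIdeal]
      exact ⟨fun h => ⟨b, h, rfl⟩, fun ⟨c, hc, hbc⟩ => IsFractionRing.injective B L hbc ▸ hc⟩
    rw [h1, coeIdeal_differentIdeal A K L B, FractionalIdeal.mem_inv_iff hne]
    constructor
    · intro h z hz
      obtain ⟨c, hc⟩ := (FractionalIdeal.mem_one_iff B⁰).1 (h z (by
        rwa [← FractionalIdeal.mem_coe, FractionalIdeal.coe_dual_one]))
      exact Submodule.mem_one.2 ⟨c, hc⟩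
    · intro h z hz
      rw [← FractionalIdeal.mem_coe, FractionalIdeal.coe_dual_one] at hz
      obtain ⟨c, hc⟩ := Submodule.mem_one.1 (h z hz)
      exact (FractionalIdeal.mem_one_iff B⁰).2 ⟨c, hc⟩
  let e := Module.Free.chooseBasis A B
  let bL := e.localizationLocalization K A⁰ L
  have hbL : ∀ i, bL i = algebraMap B L (e i) := e.localizationLocalization_apply K A⁰ L
  haveI : Fintype (Module.Free.ChooseBasisIndex A B) := inferInstance
  have hT : ∀ w : B, Algebra.trace K L (algebraMap B L w) = algebraMap A K (Algebra.trace A B w) := fun w =>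
    Algebra.trace_localization A A⁰ (Rₘ := K) (Sₘ := L) w
  have hscal : ∀ (z : L) (r : A) (v : B), Algebra.trace K L (z * algebraMap B L (r • v)) =
      algebraMap A K r * Algebra.trace K L (z * algebraMap B L v) := fun z r v => by
    rw [Algebra.smul_def r v, (algebraMap B L).map_mul, ← IsScalarTower.algebraMap_apply A B L,
      IsScalarTower.algebraMap_apply A K L, ← Algebra.smul_def, mul_smul_comm, LinearMap.map_smul, smul_eq_mul]
  ext b
  rw [SetLike.mem_coe, hD]
  constructor
  · intro hb z hz
    have hint : ∀ v : B, ∃ a : A, algebraMap A K a = Algebra.trace K L (z * algebraMap B L v) := fun v => by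
      obtain ⟨a, ha⟩ := Submodule.mem_traceDual.1 hz (algebraMap B L v) (Submodule.mem_one.2 ⟨v, rfl⟩)
      exact ⟨a, ha⟩
    choose a ha using hint
    let φ : B →ₗ[A] A :=
      { toFun := a
        map_add' := fun u v => by
          apply IsFractionRing.injective A K
          rw [map_add, ha, ha, ha, map_add, mul_add, map_add]
        map_smul' := fun r v => by
          apply IsFractionRing.injective A K
          rw [RingHom.id_apply, smul_eq_mul, (algebraMap A K).map_mul, ha, ha, hscal] }
    obtain ⟨c, hc⟩ := hb φ
    refine Submodule.mem_one.2 ⟨c, ?_⟩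
    apply eq_of_sub_eq_zero
    apply (traceForm_nondegenerate K L).1
    intro y
    have hlin : (Algebra.traceForm K L (algebraMap B L c - algebraMap B L b * z)) = 0 := bL.ext fun i => by
      rw [LinearMap.zero_apply, Algebra.traceForm_apply, hbL, sub_mul, map_sub, sub_eq_zero,
        ← (algebraMap B L).map_mul, hT, ← hc]
      show algebraMap A K (a (b * e i)) = _
      rw [ha, (algebraMap B L).map_mul]
      congr 1; ring
    rw [hlin, LinearMap.zero_apply]
  · intro hb φ
    obtain ⟨z, hz⟩ : ∃ z : L, ∀ i, Algebra.trace K L (z * bL i) = algebraMap A K (φ (e i)) := by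
      refine ⟨∑ j, algebraMap A K (φ (e j)) • bL.traceDual j, fun i => ?_⟩
      rw [Finset.sum_mul, map_sum]
      simp only [smul_mul_assoc, map_smul, smul_eq_mul, Basis.trace_traceDual_mul]
      simp
    have hzφ : ∀ w : B, Algebra.trace K L (z * algebraMap B L w) = algebraMap A K (φ w) := fun w => by
      conv_lhs => rw [← e.sum_repr w]
      conv_rhs => rw [← e.sum_repr w]
      simp only [map_sum, Finset.mul_sum, LinearMap.map_smul]
      refine Finset.sum_congr rfl fun i _ => ?_
      rw [hscal, ← hbL, hz, smul_eq_mul, (algebraMap A K).map_mul]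
    have hzdual : z ∈ Submodule.traceDual A K (1 : Submodule B L) := by
      rw [Submodule.mem_traceDual]
      intro w hw
      obtain ⟨w, rfl⟩ := Submodule.mem_one.1 hw
      exact ⟨φ w, (hzφ w).symm⟩
    obtain ⟨c, hc⟩ := Submodule.mem_one.1 (hb z hzdual)
    refine ⟨c, fun w => ?_⟩
    apply IsFractionRing.injective A K
    rw [← hT, (algebraMap B L).map_mul, hc, ← hzφ, (algebraMap B L).map_mul]
    congr 1; ring

/-- The Kähler different is the different. -/
theorem fitt_kaehler_eq_differentIdeal : Fitt.ideal B (Ω[B⁄A]) 0 = differentIdeal A B := by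
  haveI : Module.Free A B := Module.free_of_finite_type_torsion_free'
  have hlci : LCI.IsLCI A B := by
    have hft : Algebra.FiniteType A B := inferInstance
    obtain ⟨n, α, hα⟩ := Algebra.FiniteType.iff_quotient_mvPolynomial''.mp hft
    exact ⟨hft, n, α, hα, (Groth.L07.KoszulIdeal.isKoszulRegularIdeal_ker_iff α.toRingHom hα).mpr fun 𝔮 _ =>
      Groth.L07.KoszulIdeal.regAt_ker_of_regular α.toRingHom hα 𝔮⟩
  have hs := Groth.L07.SyntLCI.isSyntomic_of_flat_isLCI hlci
  refine SetLike.coe_injective ?_
  rw [← Groth.L01.Disc.noetherDifferent_eq_fitt hs, ← Groth.L01.Disc.differentSet_eq_noether hs]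
  exact differentSet_eq_differentIdeal A B

end Groth.L21.Duality
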