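import Groth.Agent.L21.Duality.Pairing
import Mathlib.RingTheory.Unramified.Locus
import Mathlib.RingTheory.Smooth.Fiber
import Mathlib.RingTheory.Etale.Field
import Mathlib.AlgebraicGeometry.Morphisms.Etale

/-!
A separable cover of the projective line is étale on a nonempty open.
-/

set_option autoImplicit false
set_option backward.isDefEq.respectTransparency false
set_option linter.style.haveILetI false
set_option maxHeartbeats 1000000
universe u

open CategoryTheory AlgebraicGeometry TopologicalSpace Opposite
open scoped nonZeroDivisors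

noncomputable section

namespace Groth.L21.Duality

open Groth.L18.PUP (P pr)
open Groth.L21.P1 (U)
open Groth.L21.Disc (overMap overMap_germ)

variable {k : Type u} [Field k] {X : Scheme.{u}} [IsIntegral X] [X.Over (Spec (CommRingCat.of k))]

theorem exists_etale_open (f : X ⟶ P 1 k) [IsFinite f] [Flat f]
    (hdom : f (genericPoint X) = genericPoint (P 1 k))
    (hsep : letI := (overMap f (genericPoint X) (genericPoint (P 1 k)) hdom).toAlgebra
      Algebra.IsSeparable (P 1 k).functionField X.functionField) :
    ∃ V : X.Opens, (V : Set X).Nonempty ∧ Etale (V.ι ≫ f) := by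
  letI algFK := (overMap f (genericPoint X) (genericPoint (P 1 k)) hdom).toAlgebra
  haveI := hsep
  haveI := finiteDimensional_functionField f hdom
  obtain ⟨hiP, hi⟩ := generic_mem_chart f hdom 0
  have hU : IsAffineOpen (U k 0) := Proj.isAffineOpen_basicOpen _ _ (Groth.L18.PS.X_mem 1 0) one_pos
  set W := f ⁻¹ᵁ U k 0 with hWdef
  have hW : IsAffineOpen W := hU.preimage f
  haveI : Nonempty (U k 0) := ⟨⟨_, hiP⟩⟩
  haveI : Nonempty W := ⟨⟨_, hi⟩⟩
  haveI := functionField_isFractionRing_of_isAffineOpen (P 1 k) (U k 0) hU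
  haveI := functionField_isFractionRing_of_isAffineOpen X W hW
  let B := Γ(P 1 k, U k 0)
  letI : Algebra B Γ(X, W) := (f.app (U k 0)).hom.toAlgebra
  letI : Algebra B X.functionField := ((γη hi).comp (f.app (U k 0)).hom).toAlgebra
  haveI : IsScalarTower B Γ(X, W) X.functionField := IsScalarTower.of_algebraMap_eq' rfl
  haveI : IsScalarTower B (P 1 k).functionField X.functionField := IsScalarTower.of_algebraMap_eq fun a =>
    (overMap_germ f (genericPoint X) (genericPoint (P 1 k)) hdom (U k 0) hiP a).symm
  haveI : Algebra.FormallyEtale B (P 1 k).functionField := Algebra.FormallyEtale.of_isLocalization B⁰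
  haveI : Algebra.FormallyEtale (P 1 k).functionField X.functionField := Algebra.FormallyEtale.of_isSeparable _ _
  haveI : Algebra.FormallyUnramified B X.functionField :=
    Algebra.FormallyUnramified.comp B (P 1 k).functionField X.functionField
  haveI : Module.Finite B Γ(X, W) := f.finite_app (U k 0) hU
  haveI : Module.Flat B Γ(X, W) := by
    have h := Flat.flat_appLE f hU hW le_rfl
    rwa [← Scheme.Hom.app_eq_appLE] at h
  haveI : IsLocallyNoetherian (P 1 k) := LocallyOfFiniteType.isLocallyNoetherian (pr 1 k)
  haveI : IsNoetherianRing B := IsLocallyNoetherian.component_noetherian ⟨_, hU⟩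
  haveI : Algebra.FinitePresentation B Γ(X, W) := Algebra.FinitePresentation.of_finiteType.1 inferInstance
  haveI : IsLocalization (⊥ : Ideal Γ(X, W)).primeCompl X.functionField := by
    rw [Ideal.primeCompl_bot]; infer_instance
  haveI : Algebra.IsUnramifiedAt B (⊥ : Ideal Γ(X, W)) :=
    Algebra.FormallyUnramified.of_equiv
      ((IsLocalization.algEquiv (⊥ : Ideal Γ(X, W)).primeCompl X.functionField
        (Localization.AtPrime (⊥ : Ideal Γ(X, W)))).restrictScalars B)
  obtain ⟨g, hg, hun⟩ := Algebra.exists_formallyUnramified_of_isUnramifiedAt (R := B) (⊥ : Ideal Γ(X, W))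
  refine ⟨X.basicOpen g, ?_, ?_⟩
  · refine ⟨genericPoint X, (X.mem_basicOpen g _ hi).2 (IsUnit.mk0 _ ?_)⟩
    exact (map_ne_zero_iff _ (IsFractionRing.injective Γ(X, W) X.functionField)).2 fun h => hg (by rw [h]; exact zero_mem _)
  have hV : IsAffineOpen (X.basicOpen g) := hW.basicOpen g
  have hle : X.basicOpen g ≤ f ⁻¹ᵁ U k 0 := X.basicOpen_le g
  letI : Algebra Γ(X, W) Γ(X, X.basicOpen g) := (X.presheaf.map (homOfLE hle).op).hom.toAlgebra
  haveI : IsLocalization.Away g Γ(X, X.basicOpen g) := hW.isLocalization_basicOpen g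
  letI : Algebra B Γ(X, X.basicOpen g) := (f.appLE (U k 0) (X.basicOpen g) hle).hom.toAlgebra
  haveI : IsScalarTower B Γ(X, W) Γ(X, X.basicOpen g) := IsScalarTower.of_algebraMap_eq' rfl
  haveI : Algebra.FormallyUnramified B Γ(X, X.basicOpen g) :=
    haveI := hun
    Algebra.FormallyUnramified.of_equiv
      ((IsLocalization.algEquiv (Submonoid.powers g) (Localization.Away g) Γ(X, X.basicOpen g)).restrictScalars B)
  haveI : Module.Flat Γ(X, W) Γ(X, X.basicOpen g) := IsLocalization.flat _ (Submonoid.powers g)
  haveI : Module.Flat B Γ(X, X.basicOpen g) := Module.Flat.trans B Γ(X, W) _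
  haveI : Algebra.FinitePresentation Γ(X, W) Γ(X, X.basicOpen g) := IsLocalization.Away.finitePresentation g
  haveI : Algebra.FinitePresentation B Γ(X, X.basicOpen g) := Algebra.FinitePresentation.trans B Γ(X, W) _
  have het : (f.appLE (U k 0) (X.basicOpen g) hle).hom.Etale := Algebra.Etale.of_formallyUnramified_of_flat
  haveI : Etale (Spec.map (f.appLE (U k 0) (X.basicOpen g) hle)) :=
    (HasRingHomProperty.Spec_iff (P := @Etale)).2 het
  rw [← hV.isoSpec_hom_fromSpec, Category.assoc, ← IsAffineOpen.SpecMap_appLE_fromSpec f hU hV hle]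
  infer_instance

end Groth.L21.Duality
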