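import Groth.Agent.L21.Duality.CliffordEquality
import Groth.Agent.L21.Bundle.Calc
import Groth.Agent.L21.Bundle.Lines
import Groth.Agent.L21.Bundle.Twist
import Groth.Agent.L21.RR.Sections

/-!
Linear (semi)stability of the canonical series.
-/

set_option autoImplicit false
set_option backward.isDefEq.respectTransparency false
set_option linter.style.haveILetI false
universe u

open CategoryTheory CategoryTheory.Limits AlgebraicGeometry

noncomputable section

namespace Groth.L21.LinStable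

open Groth.L21.RR (h)
open Groth.L21.Bundle

variable {k : Type u} [Field k] [IsAlgClosed k] {X : Scheme.{u}} [X.Over (Spec (CommRingCat.of k))]
  [IsIntegral X] [IsProper (X ↘ Spec (CommRingCat.of k))] [Smooth (X ↘ Spec (CommRingCat.of k))]
  (hd : topologicalKrullDim X = 1)

attribute [local irreducible] dg rk

include hd in
theorem deg_lt_of_proper_sub {M L : X.Modules} (hM : PicF.IsInvertible M) (hL : PicF.IsInvertible L)
    (ι : M ⟶ L) [Mono ι] (hι : ¬ IsIso ι) : Curv2.deg k X M 1 < Curv2.deg k X L 1 := by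
  haveI := Groth.L21.RR.isNoetherian_of_proper (X := X) k
  have h1 := locFree_one hM
  have h2 := locFree_one hL
  obtain ⟨e1, e2⟩ := add_cokernel k hd.le ι (isCoh_of_rank h1) (isCoh_of_rank h2)
  rw [rk_eq h1, rk_eq h2] at e1
  obtain ⟨h3, h4⟩ := dg_nonneg_of_rk_eq_zero hd.le k (coh_cokernel (isCoh_of_rank h1) (isCoh_of_rank h2) ι)
    (show rk (cokernel ι) = 0 by omega)
  rw [dg_eq k h1, dg_eq k h2]
  rcases eq_or_lt_of_le h3 with h | h
  · haveI : Epi ι := Preadditive.epi_of_isZero_cokernel ι (h4 h.symm)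
    exact absurd (isIso_of_mono_of_epi ι) hι
  · omega

include hd in
/-- Clifford for proper sub-series of the canonical series. -/
theorem sub_bound (hg : 3 ≤ Curv2.genus k X) {M : X.Modules} (hM : PicF.IsInvertible M)
    (ι : M ⟶ Omega.sheaf (X ↘ Spec (CommRingCat.of k))) [Mono ι] (hι : ¬ IsIso ι) (h2 : 2 ≤ h k 0 M) :
    2 * (h k 0 M : ℤ) ≤ Curv2.deg k X M 1 + 2 ∧
      (2 * (h k 0 M : ℤ) = Curv2.deg k X M 1 + 2 →
        ∃ (N : X.Modules) (s : Fin 2 → LinSer.Sect X N), LinSer.IsLinSer k X N 2 1 s) := by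
  haveI := Groth.L21.RR.isNoetherian_of_proper (X := X) k
  have h0 : h k 0 (Coh.structureModule X) = 1 := Groth.L21.RR.h0_eq_one_of_isAlgClosed k
  have hΩ := Groth.L21.Duality.isInvertible_omega (k := k) hd
  have hdΩ := (Groth.L21.Duality.omega_invariants (k := k) (X := X) hd).2.2 h0
  have hlt := deg_lt_of_proper_sub (k := k) hd hM hΩ ι hι
  have rrM := Groth.L21.Duality.rr_deg hd.le h0 M
  by_cases hs : 1 ≤ h k 1 M
  · refine ⟨Groth.L21.Duality.clifford hd h0 hM (by omega) hs, fun heq => ?_⟩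
    obtain ⟨N, s, hN, -⟩ := Groth.L21.Duality.clifford_equality hd h0 hM (by omega) hs
      ⟨fun e => by rw [Groth.L21.RR.h_congr k e 0, h0] at h2; omega⟩
      ⟨fun e => by rw [Groth.L21.Duality.deg_congr e] at hlt; omega⟩ heq
    exact ⟨N, s, hN⟩
  · exact ⟨by omega, fun heq => by omega⟩

include hd in
/-- A `g¹₂` is a sub-series of the canonical series. -/
theorem exists_sub_of_g12 (hg : 3 ≤ Curv2.genus k X) {N : X.Modules} (hN : PicF.IsInvertible N)
    (hdN : Curv2.deg k X N 1 = 2) (h2 : 2 ≤ h k 0 N) :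
    h k 0 N = 2 ∧ ∃ ι : N ⟶ Omega.sheaf (X ↘ Spec (CommRingCat.of k)), Mono ι ∧ ¬ IsIso ι := by
  haveI := Groth.L21.RR.isNoetherian_of_proper (X := X) k
  have h0 : h k 0 (Coh.structureModule X) = 1 := Groth.L21.RR.h0_eq_one_of_isAlgClosed k
  have hdΩ := (Groth.L21.Duality.omega_invariants (k := k) (X := X) hd).2.2 h0
  have rrN := Groth.L21.Duality.rr_deg hd.le h0 N
  have hs : 1 ≤ h k 1 N := by omega
  have hcl := Groth.L21.Duality.clifford hd h0 hN (by omega) hs
  refine ⟨by omega, ?_⟩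
  obtain ⟨N', hN', ⟨e⟩, hN0, -⟩ := Groth.L21.Duality.exists_dual (k := k) hd hN
  haveI := Groth.L21.Duality.nontrivial_of_h0_pos (k := k) (L := N') (by omega)
  obtain ⟨φ, hφ⟩ := Groth.L21.RR.exists_hom_ne_zero (L := N')
  haveI := Groth.L21.RR.mono_of_ne_zero hN' hφ
  haveI := mono_twist hN φ
  let ι := (Groth.L00.Tensor.tensorUnitLeft N).inv ≫ (Groth.L00.Tensor.tensorRightF N).map φ ≫ e.hom
  refine ⟨ι, mono_comp _ _, fun hi => ?_⟩
  haveI := hi
  have := Groth.L21.Duality.deg_congr (k := k) (asIso ι)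
  omega

omit [IsAlgClosed k] [IsIntegral X] [Smooth (X ↘ Spec (CommRingCat.of k))] in
theorem two_le_h0_of_linSer {N : X.Modules} {d : ℕ} {t : Fin 2 → LinSer.Sect X N}
    (hN : LinSer.IsLinSer k X N d 1 t) : 2 ≤ h k 0 N := by
  haveI := Groth.L21.RR.isNoetherian_of_proper (X := X) k
  haveI := Groth.L21.RR.finite_HH' k (Groth.L16.ProperFinite.isCoh_of_isInvertible hN.1) 0
  have hli : LinearIndependent k fun i => (Groth.L21.RR.e0 N).symm (t i) := by
    refine Fintype.linearIndependent_iff.2 fun c hc i => congrFun (hN.2.2 c ?_) i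
    have h := congrArg (Groth.L21.RR.e0 N) hc
    rw [map_sum, map_zero] at h
    refine Eq.trans (Finset.sum_congr rfl fun i _ => ?_) h
    rw [Groth.L21.RR.e0_smul, AddEquiv.apply_symm_apply]
  exact (Fintype.card_fin 2).symm.le.trans hli.fintype_card_le_finrank

end Groth.L21.LinStable
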